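import Groth.Agent.OrdQuadLib.PSQuad
import Groth.Agent.CIGenLib.ConeBasic
import Mathlib

/-!
# Expansion of a polynomial along a line
-/

set_option autoImplicit false
set_option linter.unusedSectionVars false
set_option linter.style.haveILetI false

universe u

open MvPolynomial

namespace OrdQuad

section ring

variable {R R' : Type*} [CommRing R] [CommRing R'] {σ : Type*}

/-- Restriction of a polynomial to the line `x + T w`. -/
noncomputable def line (x w : σ → R) : MvPolynomial σ R →+* Polynomial R :=
  eval₂Hom Polynomial.C fun q => Polynomial.C (x q) + Polynomial.X * Polynomial.C (w q)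

theorem eval_line (x w : σ → R) (s : R) (f : MvPolynomial σ R) :
    (line x w f).eval s = eval (fun q => x q + s * w q) f := by
  show ((Polynomial.evalRingHom s).comp (line x w)) f = (eval fun q => x q + s * w q) f
  congr 1
  exact ringHom_ext (fun c => by simp [line]) (fun q => by simp [line]; ring)

theorem map_line (φ : R →+* R') (x w : σ → R) (f : MvPolynomial σ R) :
    (line x w f).map φ = line (fun q => φ (x q)) (fun q => φ (w q)) (MvPolynomial.map φ f) := by
  show ((Polynomial.mapRingHom φ).comp (line x w)) f = ((line _ _).comp (MvPolynomial.map φ)) f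
  congr 1
  exact ringHom_ext (fun c => by simp [line]) (fun q => by simp [line])

theorem coeff_zero_line (x w : σ → R) (f : MvPolynomial σ R) : (line x w f).coeff 0 = eval x f := by
  rw [Polynomial.coeff_zero_eq_eval_zero, eval_line]
  simp

theorem coeff_one_line [Fintype σ] (x w : σ → R) (f : MvPolynomial σ R) :
    (line x w f).coeff 1 = ∑ q, w q * eval x (pderiv q f) := by
  classical
  induction f using MvPolynomial.induction_on with
  | C a => simp [line, Polynomial.coeff_C]
  | add p q hp hq => simp [hp, hq, mul_add, Finset.sum_add_distrib]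
  | mul_X p q hp =>
    have hq : line x w (X q) = Polynomial.C (x q) + Polynomial.X * Polynomial.C (w q) := eval₂Hom_X' ..
    rw [map_mul, hq, mul_add, Polynomial.coeff_add, Polynomial.coeff_mul_C, hp, mul_comm Polynomial.X, ← mul_assoc,
      Polynomial.coeff_mul_X, Polynomial.coeff_mul_C, coeff_zero_line]
    simp only [pderiv_mul, map_add, map_mul, eval_X, pderiv_X, Pi.single_apply, apply_ite (eval x), map_one, map_zero,
      mul_add, Finset.sum_add_distrib, Finset.sum_mul, mul_assoc, mul_ite, mul_one, mul_zero, Finset.sum_ite_eq,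
      Finset.mem_univ, if_true]
    ring

theorem line_homogeneous (w : σ → R) {f : MvPolynomial σ R} {e : ℕ} (hf : f.IsHomogeneous e) :
    line (fun _ => 0) w f = Polynomial.C (eval w f) * Polynomial.X ^ e := by
  classical
  rw [f.as_sum, map_sum, map_sum, map_sum, Finset.sum_mul]
  refine Finset.sum_congr rfl fun s hs => ?_
  have hdeg : s.degree = e := by
    by_contra hne
    exact mem_support_iff.1 hs (hf.coeff_eq_zero hne)
  simp only [line, eval₂Hom_monomial, eval_monomial, map_mul, Finsupp.prod, map_prod, map_pow, map_zero, zero_add, mul_pow,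
    Finset.prod_mul_distrib, Finset.prod_pow_eq_pow_sum]
  rw [← hdeg, Finsupp.degree_apply]
  ring

theorem coeff_line_zero (w : σ → R) (f : MvPolynomial σ R) (e : ℕ) :
    (line (fun _ => 0) w f).coeff e = eval w (homogeneousComponent e f) := by
  classical
  conv_lhs => rw [← sum_homogeneousComponent f]
  simp only [map_sum, Polynomial.finsetSum_coeff,
    line_homogeneous w (homogeneousComponent_isHomogeneous _ f), Polynomial.coeff_C_mul_X_pow]
  rw [Finset.sum_ite_eq]
  split_ifs with h
  · rfl
  · rw [Finset.mem_range] at h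
    rw [homogeneousComponent_eq_zero _ _ (by omega), map_zero]

/-- The bilinear form of second derivatives applied to `w`. -/
noncomputable def hess (x w : σ → R) (f : MvPolynomial σ R) (q : σ) : R := (line x w (pderiv q f)).coeff 1

/-- The quadratic term along `w`. -/
noncomputable def quad (x w : σ → R) (f : MvPolynomial σ R) : R := (line x w f).coeff 2

end ring

variable {k : Type u} [Field k] {r n : ℕ}

/-- An affine substitution. -/
noncomputable def affSub (v : Fin (r + 1) → k) (L : Fin (r + 1) → Fin n → k) :
    MvPolynomial (Fin (r + 1)) k →ₐ[k] MvPolynomial (Fin n) k :=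
  aeval fun q => C (v q) + ∑ a, C (L q a) * X a

/-- The image of a vector. -/
def lin (L : Fin (r + 1) → Fin n → k) (w : Fin n → k) : Fin (r + 1) → k := fun q => ∑ a, L q a * w a

theorem line_affSub (v : Fin (r + 1) → k) (L : Fin (r + 1) → Fin n → k) (w : Fin n → k) (f : MvPolynomial (Fin (r + 1)) k) :
    line (fun _ => 0) w (affSub v L f) = line v (lin L w) f := by
  show ((line (fun _ => 0) w).comp (affSub v L).toRingHom) f = line v (lin L w) f
  congr 1
  refine ringHom_ext (fun c => by simp [line, affSub]) fun q => ?_
  simp [line, affSub, lin, Finset.mul_sum, map_sum]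
  exact Finset.sum_congr rfl fun a _ => by ring

theorem pderiv_affSub (v : Fin (r + 1) → k) (L : Fin (r + 1) → Fin n → k) (a : Fin n) (f : MvPolynomial (Fin (r + 1)) k) :
    pderiv a (affSub v L f) = ∑ i, C (L i a) * affSub v L (pderiv i f) := by
  classical
  induction f using MvPolynomial.induction_on with
  | C c => simp [affSub]
  | add p q hp hq => simp [hp, hq, mul_add, Finset.sum_add_distrib]
  | mul_X p q hp =>
    have hX : affSub v L (X q) = C (v q) + ∑ a, C (L q a) * X a := aeval_X ..
    have hd : pderiv a (affSub v L (X q)) = C (L q a) := by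
      rw [hX]; simp [pderiv_C_mul, pderiv_X, Pi.single_apply]
    rw [map_mul, pderiv_mul, hd, hp]
    simp only [pderiv_mul, map_add, map_mul, pderiv_X, Pi.single_apply, apply_ite (affSub v L), map_one, map_zero,
      mul_add, Finset.sum_add_distrib, Finset.sum_mul, mul_assoc, mul_ite, mul_one, mul_zero, Finset.sum_ite_eq,
      Finset.mem_univ, if_true]
    ring

/-- The quadratic form of `f` in the linear coordinates `L`. -/
noncomputable def qform (v : Fin (r + 1) → k) (L : Fin (r + 1) → Fin n → k) (f : MvPolynomial (Fin (r + 1)) k) :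
    MvPolynomial (Fin n) k :=
  homogeneousComponent 2 (affSub v L f)

theorem eval_qform (v : Fin (r + 1) → k) (L : Fin (r + 1) → Fin n → k) (w : Fin n → k) (f : MvPolynomial (Fin (r + 1)) k) :
    eval w (qform v L f) = quad v (lin L w) f := by
  rw [qform, ← coeff_line_zero, line_affSub, quad]

theorem eval_pderiv_qform (v : Fin (r + 1) → k) (L : Fin (r + 1) → Fin n → k) (w : Fin n → k) (a : Fin n)
    (f : MvPolynomial (Fin (r + 1)) k) :
    eval w (pderiv a (qform v L f)) = ∑ i, L i a * hess v (lin L w) f i := by
  classical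
  have h1 : pderiv a (qform v L f) = homogeneousComponent 1 (pderiv a (affSub v L f)) := by
    conv_rhs => rw [← sum_homogeneousComponent (affSub v L f)]
    simp only [map_sum, qform]
    have hc : ∀ e, homogeneousComponent 1 (pderiv a (homogeneousComponent e (affSub v L f))) =
        if e = 2 then pderiv a (homogeneousComponent e (affSub v L f)) else 0 := fun e => by
      by_cases he0 : e = 0
      · subst he0; simp [homogeneousComponent_zero]
      · have h := (homogeneousComponent_isHomogeneous e (affSub v L f)).pderiv (i := a)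
        rw [homogeneousComponent_of_mem h]
        split_ifs <;> first | rfl | omega
    rw [Finset.sum_congr rfl fun e _ => hc e, Finset.sum_ite_eq']
    split_ifs with h
    · rfl
    · rw [Finset.mem_range] at h
      rw [homogeneousComponent_eq_zero _ _ (by omega), map_zero]
  rw [h1, ← coeff_line_zero, pderiv_affSub, map_sum, Polynomial.finsetSum_coeff]
  refine Finset.sum_congr rfl fun i _ => ?_
  rw [map_mul, show line (fun _ => 0) w (C (L i a) : MvPolynomial (Fin n) k) = Polynomial.C (L i a) from eval₂Hom_C ..,
    Polynomial.coeff_C_mul, line_affSub, hess]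

/-- The degree two part of the image of a function with vanishing value and gradient. -/
theorem part2_image (φ : MvPolynomial (Fin (r + 1)) k →ₐ[k] MvPowerSeries (Fin n) k) (v : Fin (r + 1) → k)
    (L : Fin (r + 1) → Fin n → k)
    (hφ : ∀ q, φ (X q) - algebraMap _ _ (affSub v L (X q)) ∈ CohenLib.varsIdeal k n ^ 2)
    {f : MvPolynomial (Fin (r + 1)) k} (h0 : eval v f = 0) (h1 : CIGen.grad v f = 0) :
    φ f ∈ CohenLib.varsIdeal k n ^ 2 ∧ part2 (φ f) = qform v L f := by
  classical
  set 𝔫 := CohenLib.varsIdeal k n
  let B : MvPolynomial (Fin (r + 1)) k →+* MvPowerSeries (Fin n) k := (algebraMap _ _).comp (affSub v L).toRingHom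
  have hsub : ∀ p, φ p - B p ∈ 𝔫 ^ 2 := fun p => by
    have hAB : (Ideal.Quotient.mk (𝔫 ^ 2)).comp φ.toRingHom = (Ideal.Quotient.mk _).comp B :=
      ringHom_ext (fun c => by
        show Ideal.Quotient.mk _ (φ (C c)) = Ideal.Quotient.mk _ (B (C c))
        rw [← MvPolynomial.algebraMap_eq, φ.commutes]
        simp [B, affSub, MvPowerSeries.algebraMap_apply, MvPowerSeries.algebraMap_apply'])
        (fun q => Ideal.Quotient.eq.2 (hφ q))
    exact Ideal.Quotient.eq.1 (RingHom.congr_fun hAB p)
  have hB : ∀ p ∈ RingHom.ker (eval v), B p ∈ 𝔫 := by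
    intro p hp
    rw [CIGen.ker_eval] at hp
    refine (Ideal.map_le_iff_le_comap.1 ?_ : _ ≤ 𝔫.comap B) hp
    rw [CIGen.ptIdeal, Ideal.map_span, Ideal.span_le]
    rintro _ ⟨_, ⟨q, rfl⟩, rfl⟩
    rw [SetLike.mem_coe, ← pow_one 𝔫]
    refine coe_mem_pow ((mem_pow_idealOfVars_iff' _ _).2 fun e he => ?_)
    obtain rfl : e = 0 := (Finsupp.degree_eq_zero_iff e).1 (by omega)
    show constantCoeff _ = 0
    simp [affSub]
  have hA : ∀ p ∈ RingHom.ker (eval v), φ p ∈ 𝔫 := fun p hp => by
    have := add_mem (Ideal.pow_le_self two_ne_zero (hsub p)) (hB p hp)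
    rwa [sub_add_cancel] at this
  have hf : f ∈ RingHom.ker (eval v) ^ 2 := by
    have := CIGen.taylor v f
    rw [h0, map_zero, sub_zero, show (fun j => eval v (pderiv j f)) = 0 from h1, map_zero, sub_zero] at this
    rwa [CIGen.ker_eval]
  have key : φ f - B f ∈ 𝔫 ^ 3 ∧ φ f ∈ 𝔫 ^ 2 := by
    clear h0 h1
    rw [pow_two] at hf
    induction hf using Submodule.mul_induction_on' with
    | mem_mul_mem a ha b hb =>
      refine ⟨?_, by rw [map_mul, pow_two]; exact Ideal.mul_mem_mul (hA a ha) (hA b hb)⟩
      rw [map_mul, map_mul, show φ a * φ b - B a * B b = φ a * (φ b - B b) + (φ a - B a) * B b by ring]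
      refine add_mem ?_ ?_
      · rw [pow_succ']; exact Ideal.mul_mem_mul (hA a ha) (hsub b)
      · rw [pow_succ]; exact Ideal.mul_mem_mul (hsub a) (hB b hb)
    | add a _ b _ ha hb =>
      rw [map_add, map_add, add_sub_add_comm]; exact ⟨add_mem ha.1 hb.1, add_mem ha.2 hb.2⟩
  refine ⟨key.2, (part2_congr key.1).trans ((part2_eq_iff (homogeneousComponent_isHomogeneous 2 _)).2 fun e he => ?_)⟩
  rw [coeff_homogeneousComponent, if_pos he]
  exact (coeff_algebraMap _ e).symm

end OrdQuad
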