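import Groth.Agent.OrdQuadLib.Param
import Groth.Agent.CIGenLib.Bridge
import Groth.Agent.GenusZeroLib.PSpace
import Groth.Agent.GenusZeroLib.PSmooth
import Mathlib

/-!
# Ordinary quadratic singularities of hypersurface sections
-/

set_option autoImplicit false
set_option linter.unusedSectionVars false
set_option linter.style.haveILetI false

universe u

open CategoryTheory AlgebraicGeometry TopologicalSpace MvPolynomial IsLocalRing GradedCechLib CIGen

namespace OrdQuad

variable {k : Type u} [Field k] {r : ℕ} {X : Scheme.{u}}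

theorem toStalk_chart (i : X ⟶ CohB1.ProjSpace r k) (j : Fin (r + 1)) {x : X} (hx : x ∈ chartPre i j) (c : k) :
    LefPen.toStalk k (i ≫ CohB1.ProjSpace.toSpec r k) x c = X.presheaf.germ (chartPre i j) x hx (chartHom i j (C c)) := by
  have h0 : chartHom i j (C c) =
      X.presheaf.map (homOfLE (le_top : chartPre i j ≤ ⊤)).op (Coh.toGlobal (i ≫ CohB1.ProjSpace.toSpec r k) c) := by
    show i.app (QCohLib.stdOpen r k j) (deh r k j (C c)) = _
    rw [deh_C]
    exact NatTrans.naturality_apply (F := (CohB1.ProjSpace r k).presheaf) i.c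
      (homOfLE (le_top : QCohLib.stdOpen r k j ≤ ⊤)).op (Coh.toGlobal (CohB1.ProjSpace.toSpec r k) c)
  rw [h0]
  exact (TopCat.Presheaf.germ_res_apply X.presheaf (homOfLE (le_top : chartPre i j ≤ ⊤)) x hx _).symm

theorem eq_of_ker_eval {v v' : Fin (r + 1) → k} (h : RingHom.ker (eval v) = RingHom.ker (eval v')) : v = v' :=
  funext fun q => by
    have h1 : MvPolynomial.X q - C (v q) ∈ RingHom.ker (eval v') := h ▸ (by simp [RingHom.mem_ker])
    simpa [RingHom.mem_ker, sub_eq_zero, eq_comm] using h1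

section point

variable [IsAlgClosed k] {N : ℕ} {K : Type u} [Field K] [Algebra k K] {ξ : Fin (r + 1) → K}
  {F : Fin N → MvPolynomial (Fin (r + 1)) k} {e : Fin N → ℕ} (m : ℕ) (i : X ⟶ CohB1.ProjSpace r k) [IsClosedImmersion i]
  [IrreducibleSpace X] [SmoothOfRelativeDimension (m + 1) (i ≫ CohB1.ProjSpace.toSpec r k)]
  (hM : IsModel (m + 1) i ξ F e) {d : ℕ} (H : LefPen.Form r k d)

include hM in
/-- Away from tangency the section is smooth. -/
theorem smoothAt_iff (j : Fin (r + 1)) (hH : H.1 ∉ chartIdeal ξ j) (y : LefPen.Sec i ({H} : Set (LefPen.Form r k d)))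
    (hx : (LefPen.secIdeal i ({H} : Set (LefPen.Form r k d))).subschemeι y ∈ chartPre i j)
    (hc : IsClosed ({(LefPen.secIdeal i ({H} : Set (LefPen.Form r k d))).subschemeι y} : Set X))
    {v : Fin (r + 1) → k}
    (hv : (((chart_affine j).preimage i).primeIdealOf ⟨_, hx⟩).asIdeal.comap (chartHom i j) = RingHom.ker (eval v)) :
    LefPen.SmoothAt (LefPen.secToSpec i ({H} : Set (LefPen.Form r k d))) y ↔ ¬ BadAt F v H.1 := by
  classical
  obtain ⟨v', -, -, -, hv', hiff⟩ := secPoint (m + 1) (by omega) i hM H j y hx hc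
  obtain rfl := eq_of_ker_eval (hv.symm.trans hv')
  set g := LefPen.secToSpec i ({H} : Set (LefPen.Form r k d))
  let I := LefPen.secIdeal i ({H} : Set (LefPen.Form r k d))
  haveI : LocallyOfFiniteType (i ≫ CohB1.ProjSpace.toSpec r k) :=
    haveI : Smooth (i ≫ CohB1.ProjSpace.toSpec r k) := SmoothOfRelativeDimension.smooth (m + 1) _
    inferInstance
  haveI : LocallyOfFiniteType g := by
    show LocallyOfFiniteType (I.subschemeι ≫ i ≫ CohB1.ProjSpace.toSpec r k)
    infer_instance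
  haveI : LocallyOfFinitePresentation g := inferInstance
  obtain ⟨hreg, hdim⟩ := closedPt (m + 1) i hc
  haveI := hreg
  haveI : IsDomain (X.presheaf.stalk (I.subschemeι y)) := CommAlgDim.isDomain_of_isRegularLocalRing _
  haveI := isIntegral_of_smooth (m + 1) i
  set z := X.presheaf.germ (chartPre i j) (I.subschemeι y) hx (chartHom i j H.1)
  let eq := (Ideal.quotEquivOfEq (ker_stalkMap_sec i H j y hx).symm).trans
    (RingHom.quotientKerEquivOfSurjective (I.subschemeι.stalkMap_surjective y))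
  have hz0 : z ≠ 0 := fun h => hH (by
    have hη : genericPoint X ∈ chartPre i j :=
      (genericPoint_spec X).mem_open_set_iff (chartPre i j).isOpen |>.2 ⟨_, trivial, hx⟩
    rw [← hM.ker j hη, RingHom.mem_ker]
    exact (map_eq_zero_iff _ (germ_injective_of_isIntegral X (I.subschemeι y) hx)).1 h)
  have hzm : z ∈ maximalIdeal (X.presheaf.stalk (I.subschemeι y)) := by
    by_contra hu
    have htop : Ideal.span {z} = ⊤ := Ideal.span_singleton_eq_top.2 (not_not.1 hu)
    haveI : Subsingleton (X.presheaf.stalk (I.subschemeι y) ⧸ Ideal.span {z}) := Ideal.Quotient.subsingleton_iff.2 htop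
    exact not_subsingleton _ eq.symm.toEquiv.subsingleton
  have hd : ringKrullDim ((LefPen.Sec i ({H} : Set (LefPen.Form r k d))).presheaf.stalk y) = ((m + 1 - 1 : ℕ) : WithBot ℕ∞) := by
    rw [← ringKrullDim_eq_of_ringEquiv eq]
    have h1 := ringKrullDim_quotient_span_singleton_succ_eq_ringKrullDim (CommAlgDim.isSMulRegular_of_ne_zero hz0) hzm
    rw [hdim, Nat.cast_add, Nat.cast_one] at h1
    exact (ENat.WithBot.add_natCast_cancel (c := 1)).1 (by simpa using h1)
  rw [← hiff, and_iff_left hd]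
  exact ⟨fun h => (DepthLib.regular_of_smooth_and_conversely g y).1 h,
    fun h => (DepthLib.regular_of_smooth_and_conversely g y).2 inferInstance h⟩

include hM in
/-- Ordinary quadratic singularities are nondegenerate points of tangency. -/
theorem ordQuad_iff (j : Fin (r + 1)) (y : LefPen.Sec i ({H} : Set (LefPen.Form r k d)))
    (hy : IsClosed ({y} : Set (LefPen.Sec i ({H} : Set (LefPen.Form r k d)))))
    (hx : (LefPen.secIdeal i ({H} : Set (LefPen.Form r k d))).subschemeι y ∈ chartPre i j)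
    (hc : IsClosed ({(LefPen.secIdeal i ({H} : Set (LefPen.Form r k d))).subschemeι y} : Set X))
    {v : Fin (r + 1) → k}
    (hv : (((chart_affine j).preimage i).primeIdealOf ⟨_, hx⟩).asIdeal.comap (chartHom i j) = RingHom.ker (eval v))
    (hbad : BadAt F v H.1)
    (hq : ∀ Q₂ : LefPen.Form m k 2, LefPen.NondegQuad k Q₂ ↔ NondegP Q₂.1) :
    LefPen.IsOrdQuadSing k m (LefPen.secToSpec i ({H} : Set (LefPen.Form r k d))) y ↔ Nondeg F j v H.1 := by
  classical
  obtain ⟨v', hzero, hvj, -, hv', -⟩ := secPoint (m + 1) (by omega) i hM H j y hx hc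
  obtain rfl := eq_of_ker_eval (hv.symm.trans hv')
  have hF := hM.eqn
  set g := LefPen.secToSpec i ({H} : Set (LefPen.Form r k d))
  let I := LefPen.secIdeal i ({H} : Set (LefPen.Form r k d))
  obtain ⟨hreg, -⟩ := closedPt (m + 1) i hc
  haveI := hreg
  let hV := (chart_affine j).preimage i
  let mm := (hV.primeIdealOf ⟨_, hx⟩).asIdeal
  haveI : mm.IsMaximal := hV.primeIdealOf_isMaximal_of_isClosed ⟨_, hx⟩ hc
  letI := X.presheaf.algebra_section_stalk ⟨_, hx⟩
  haveI : IsLocalization.AtPrime (X.presheaf.stalk (I.subschemeι y)) mm := hV.isLocalization_stalk ⟨_, hx⟩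
  letI : Algebra k (X.presheaf.stalk (I.subschemeι y)) :=
    (LefPen.toStalk k (i ≫ CohB1.ProjSpace.toSpec r k) (I.subschemeι y)).toAlgebra
  have hη : genericPoint X ∈ chartPre i j :=
    (genericPoint_spec X).mem_open_set_iff (chartPre i j).isOpen |>.2 ⟨_, trivial, hx⟩
  obtain ⟨φ, L, ec, hP, hec, hφ⟩ := exists_param (R := X.presheaf.stalk (I.subschemeι y)) hF hzero hvj
    (finrank_grad hF (m + 1) hM.dim hM.reg hzero (fun h0 => one_ne_zero (α := k) (by rw [← hvj, h0]; rfl)))
    (chartHom i j) (chartHom_surjective i j) (hM.ker j hη) mm hv (fun c => toStalk_chart i j hx c)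
  obtain ⟨ε, hε⟩ := completion_quot (I.subschemeι.stalkMap y).hom (I.subschemeι.stalkMap_surjective y) _
    (ker_stalkMap_sec i H j y hx) ec
  have hz : ec (algebraMap _ _ (X.presheaf.germ (chartPre i j) (I.subschemeι y) hx (chartHom i j H.1))) = φ H.1 :=
    (hφ H.1).symm
  have hts : ∀ c, (I.subschemeι.stalkMap y).hom (LefPen.toStalk k (i ≫ CohB1.ProjSpace.toSpec r k) (I.subschemeι y) c) =
      LefPen.toStalk k g y c := fun c => by
    exact Scheme.Hom.germ_stalkMap_apply I.subschemeι ⊤ y trivial (Coh.toGlobal (i ≫ CohB1.ProjSpace.toSpec r k) c)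
  -- the equation in parameters
  have hform : ∀ t : Fin N → k, grad v H.1 = ∑ l, t l • grad v (F l) →
      φ H.1 ∈ CohenLib.varsIdeal k (m + 1) ^ 2 ∧ part2 (φ H.1) = qform v L (H.1 - ∑ l, C (t l) * F l) := by
    intro t ht
    have hφf : φ (H.1 - ∑ l, C (t l) * F l) = φ H.1 := by
      rw [map_sub, map_sum, Finset.sum_eq_zero fun l _ => by rw [map_mul, hP.kill _ (mem_chartIdeal hF j l), mul_zero],
        sub_zero]
    rw [← hφf]
    refine part2_image φ v L hP.congr (by simp [map_sum, hbad.2.1, show ∀ l, eval v (F l) = 0 from hzero]) ?_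
    funext q
    have h := congrFun ht q
    simp only [grad] at h
    simp [grad, map_sum, h, pderiv_C_mul]
  obtain ⟨t₀, ht₀⟩ := (Submodule.mem_span_range_iff_exists_fun k).1 hbad.2.2
  have hz2 : φ H.1 ∈ CohenLib.varsIdeal k (m + 1) ^ 2 := (hform t₀ ht₀.symm).1
  have hiff : NondegP (part2 (φ H.1)) ↔ Nondeg F j v H.1 := by
    constructor
    · intro h t ht
      rw [degW_iff hP, ← (hform t ht).2]
      exact h.2
    · intro h
      have h1 := h t₀ ht₀.symm
      rw [degW_iff hP, ← (hform t₀ ht₀.symm).2] at h1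
      exact ⟨fun h0 => h1 ⟨Pi.single 0 1, fun h2 => one_ne_zero (α := k) (by simpa using congrFun h2 0),
        by simp [h0], fun a => by simp [h0]⟩, h1⟩
  rw [← hiff]
  constructor
  · rintro ⟨-, Q, Q₂, e', he', hsd, hqp, hnd⟩
    have hQ2 : Q ∈ CohenLib.varsIdeal k (m + 1) ^ 2 := mem_pow_of_coeff hsd
    have hQp : part2 Q = Q₂.1 := (part2_eq_iff ((mem_homogeneousSubmodule 2 _).1 Q₂.2)).2 hqp
    refine nondeg_of_equiv (hz ▸ hz2 : _ ∈ _) hQ2 ((Ideal.quotEquivOfEq (by rw [hz])).trans (ε.symm.trans e')) (fun c => ?_)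
      (hQp ▸ (hq Q₂).1 hnd)
    rw [RingEquiv.trans_apply, RingEquiv.trans_apply]
    have h1 : ε (algebraMap _ _ (LefPen.toStalk k g y c)) = Ideal.Quotient.mk _ (MvPowerSeries.C c) := by
      rw [← hts, hε]
      exact congrArg _ (hec c)
    rw [Ideal.quotEquivOfEq_mk, ← h1, RingEquiv.symm_apply_apply]
    exact he' c
  · intro h
    refine ⟨hy, φ H.1, ⟨part2 (φ H.1), (mem_homogeneousSubmodule 2 _).2 (isHomogeneous_part2 _)⟩,
      ε.trans (Ideal.quotEquivOfEq (by rw [hz])), fun c => ?_, fun s hs => coeff_eq_zero_of_mem_pow hz2 hs,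
      (part2_eq_iff (isHomogeneous_part2 _)).1 rfl, (hq _).2 h⟩
    rw [RingEquiv.trans_apply, ← hts, hε]
    exact congrArg _ (hec c)

end point

section quadric

variable [IsAlgClosed k]

theorem deh_injective_of_homogeneous {n : ℕ} (j : Fin (n + 1)) {p : MvPolynomial (Fin (n + 1)) k} {d : ℕ}
    (hp : p.IsHomogeneous d) (h : deh n k j p = 0) : p = 0 := by
  have h1 : deh₀ n k j p = 0 := (map_eq_zero_iff _ (toSec_bijective n k j).1).1 h
  have h2 := congrArg HomogeneousLocalization.val h1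
  rw [val_deh₀_homogeneous n k j p d hp, HomogeneousLocalization.val_zero] at h2
  rw [Localization.mk_eq_mk', IsLocalization.mk'_eq_zero_iff] at h2
  obtain ⟨⟨_, t, rfl⟩, hc⟩ := h2
  exact (mul_eq_zero.1 hc).resolve_left (pow_ne_zero _ (X_ne_zero j))

theorem smoothRel_projSpace (n : ℕ) : SmoothOfRelativeDimension n (CohB1.ProjSpace.toSpec n k) := by
  haveI := GenusZeroLib.smooth_toSpec n k
  refine smooth_of_closedPts (CohB1.ProjSpace.toSpec n k) n fun y hy => ?_
  refine ⟨(DepthLib.regular_of_smooth_and_conversely (CohB1.ProjSpace.toSpec n k) y).1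
    (by rw [Scheme.Hom.smoothLocus_eq_top]; trivial), ?_⟩
  obtain ⟨j, hj⟩ := Opens.mem_iSup.mp (show y ∈ ⨆ j, QCohLib.stdOpen n k j by rw [QCohLib.iSup_stdOpen]; trivial)
  have hV : IsAffineOpen (QCohLib.stdOpen n k j) := chart_affine j
  letI := (CohB1.ProjSpace n k).presheaf.algebra_section_stalk ⟨y, hj⟩
  let q := (hV.primeIdealOf ⟨y, hj⟩).asIdeal
  haveI : q.IsMaximal := hV.primeIdealOf_isMaximal_of_isClosed ⟨y, hj⟩ hy
  haveI : IsLocalization.AtPrime ((CohB1.ProjSpace n k).presheaf.stalk y) q := hV.isLocalization_stalk ⟨y, hj⟩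
  let φ : MvPolynomial (Fin n) k →+* Γ(CohB1.ProjSpace n k, QCohLib.stdOpen n k j) :=
    (toSec n k j).comp (GenusZeroLib.chartPoly n k j)
  have hφ : Function.Bijective φ := (toSec_bijective n k j).comp (GenusZeroLib.chartPoly_bijective n k j)
  let φe := RingEquiv.ofBijective φ hφ
  haveI : (q.comap φ).IsMaximal := Ideal.comap_isMaximal_of_surjective _ hφ.2
  rw [IsLocalization.AtPrime.ringKrullDim_eq_height q ((CohB1.ProjSpace n k).presheaf.stalk y)]
  have h := MaxHeight.affine_domain k (MvPolynomial (Fin n) k) (q.comap φ)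
  rw [MvPolynomial.ringKrullDim_of_isNoetherianRing, ringKrullDim_eq_zero_of_field, zero_add, Nat.card_fin] at h
  rw [← h]
  exact congrArg _ (RingEquiv.height_comap φe q).symm

theorem smooth_congr {Y : Scheme.{u}} {I J : Y.IdealSheafData} (h : I = J) {T : Scheme.{u}} (f : Y ⟶ T) :
    Smooth (I.subschemeι ≫ f) ↔ Smooth (J.subschemeι ≫ f) := by subst h; rfl

/-- Nondegenerate quadratic forms. -/
theorem nondegQuad_iff {m : ℕ} (Q₂ : LefPen.Form m k 2) : LefPen.NondegQuad k Q₂ ↔ NondegP Q₂.1 := by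
  classical
  refine and_congr_right fun hne => ?_
  have hQ : Q₂.1.IsHomogeneous 2 := (mem_homogeneousSubmodule 2 _).1 Q₂.2
  rcases Nat.eq_zero_or_pos m with rfl | hm
  · refine iff_of_true (Or.inl rfl) ?_
    rintro ⟨w, hw, hw0, -⟩
    refine hne (MvPolynomial.funext fun x => ?_)
    have hx : x = fun a => x 0 / w 0 * w a := funext fun a => by
      rw [Fin.fin_one_eq_zero a, div_mul_cancel₀]
      exact fun h => hw (funext fun b => by rw [Fin.fin_one_eq_zero b, h]; rfl)
    rw [hx, eval_smul_of_homogeneous hQ, hw0, mul_zero, map_zero]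
  obtain ⟨m, rfl⟩ := Nat.exists_eq_succ_of_ne_zero hm.ne'
  haveI := smoothRel_projSpace (k := k) (m + 1)
  haveI : SmoothOfRelativeDimension (m + 1) (𝟙 (CohB1.ProjSpace (m + 1) k) ≫ CohB1.ProjSpace.toSpec (m + 1) k) := by
    rwa [Category.id_comp]
  haveI : IrreducibleSpace ↥(CohB1.ProjSpace (m + 1) k) := GenusZeroLib.irreducibleSpace_projSpace k (m + 1)
  obtain ⟨K, _, _, ξ, N, F, e, hM⟩ := exists_isModel (m + 1) (𝟙 (CohB1.ProjSpace (m + 1) k))
  have hη : ∀ j, ξ j ≠ 0 → ∀ p, p ∈ chartIdeal ξ j → deh (m + 1) k j p = 0 := fun j hj p hp => by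
    rw [← hM.ker j (hM.mem j hj), RingHom.mem_ker] at hp
    exact hp
  obtain ⟨j0, hj0⟩ := Opens.mem_iSup.mp (show genericPoint ↥(CohB1.ProjSpace (m + 1) k) ∈
    ⨆ j, QCohLib.stdOpen (m + 1) k j by rw [QCohLib.iSup_stdOpen]; trivial)
  have hξ0 := hM.ne j0 hj0
  have hF0 : ∀ l, F l = 0 := fun l =>
    deh_injective_of_homogeneous j0 (hM.eqn.homog l) (hη j0 hξ0 _ (mem_chartIdeal hM.eqn j0 l))
  have hbad : Bad' F Q₂.1 ↔ ∃ w : Fin (m + 1 + 1) → k, w ≠ 0 ∧ eval w Q₂.1 = 0 ∧ ∀ a, eval w (pderiv a Q₂.1) = 0 := by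
    refine exists_congr fun w => and_congr_right fun _ => ?_
    have hspan : Submodule.span k (Set.range fun l => grad w (F l)) = ⊥ := by
      rw [Submodule.span_eq_bot]
      rintro _ ⟨l, rfl⟩
      simp [hF0 l, grad_zero]
    refine ⟨fun h => ⟨h.2.1, fun a => congrFun (((Submodule.mem_bot k).1 (hspan ▸ h.2.2))) a⟩,
      fun h => ⟨fun l => by simp [hF0 l], h.1, ?_⟩⟩
    rw [hspan, Submodule.mem_bot]
    exact funext h.2
  rw [← hbad]
  have hI : LefPen.secIdeal (𝟙 (CohB1.ProjSpace (m + 1) k)) ({Q₂} : Set (LefPen.Form (m + 1) k 2)) = LefPen.hypIdeal Q₂ := by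
    rw [LefPen.secIdeal, iSup_singleton, Scheme.IdealSheafData.comap_id]
  have hsm : Smooth ((LefPen.hypIdeal Q₂).subschemeι ≫ CohB1.ProjSpace.toSpec (m + 1) k) ↔
      Smooth (LefPen.secToSpec (𝟙 (CohB1.ProjSpace (m + 1) k)) ({Q₂} : Set (LefPen.Form (m + 1) k 2))) := by
    have h1 : LefPen.secToSpec (𝟙 (CohB1.ProjSpace (m + 1) k)) ({Q₂} : Set (LefPen.Form (m + 1) k 2)) =
        (LefPen.secIdeal (𝟙 (CohB1.ProjSpace (m + 1) k)) ({Q₂} : Set (LefPen.Form (m + 1) k 2))).subschemeι ≫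
          CohB1.ProjSpace.toSpec (m + 1) k := by
      show _ ≫ _ = _
      rw [Category.id_comp]
    rw [h1]
    exact (smooth_congr hI (CohB1.ProjSpace.toSpec (m + 1) k)).symm
  have hmain : Smooth (LefPen.secToSpec (𝟙 (CohB1.ProjSpace (m + 1) k)) ({Q₂} : Set (LefPen.Form (m + 1) k 2))) ↔
      ¬ Bad' F Q₂.1 := by
    constructor
    · intro hS hb
      haveI := hS
      obtain ⟨j, v, hvj, hb⟩ := exists_normalized hM.eqn hQ hb
      obtain ⟨y, hx, hy, hc, hv⟩ := exists_secPoint (m + 1) (𝟙 (CohB1.ProjSpace (m + 1) k)) hM Q₂ hb.1 hvj hb.2.1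
      have hξ := ne_zero_of_zero hM.eqn hb.1 (j := j) (by rw [hvj]; exact one_ne_zero)
      haveI : LocallyOfFinitePresentation
          (LefPen.secToSpec (𝟙 (CohB1.ProjSpace (m + 1) k)) ({Q₂} : Set (LefPen.Form (m + 1) k 2))) := inferInstance
      refine (smoothAt_iff m (𝟙 (CohB1.ProjSpace (m + 1) k)) hM Q₂ j (fun h => hne (deh_injective_of_homogeneous j hQ (hη j hξ _ h)))
        y hx hc hv).1 ?_ hb
      exact Scheme.Hom.mem_smoothLocus.1 (by rw [Scheme.Hom.smoothLocus_eq_top]; trivial)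
    · intro hb
      haveI : LocallyOfFiniteType (LefPen.secToSpec (𝟙 (CohB1.ProjSpace (m + 1) k)) ({Q₂} : Set (LefPen.Form (m + 1) k 2))) := by
        haveI := GenusZeroLib.smooth_toSpec (m + 1) k
        show LocallyOfFiniteType (_ ≫ 𝟙 _ ≫ _)
        infer_instance
      haveI : LocallyOfFinitePresentation
          (LefPen.secToSpec (𝟙 (CohB1.ProjSpace (m + 1) k)) ({Q₂} : Set (LefPen.Form (m + 1) k 2))) := inferInstance
      haveI : SmoothOfRelativeDimension m (LefPen.secToSpec (𝟙 (CohB1.ProjSpace (m + 1) k)) ({Q₂} : Set (LefPen.Form (m + 1) k 2))) :=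
        smooth_of_closedPts _ m fun y hy => by
          set I := LefPen.secIdeal (𝟙 (CohB1.ProjSpace (m + 1) k)) ({Q₂} : Set (LefPen.Form (m + 1) k 2))
          have hc : IsClosed ({I.subschemeι y} : Set (CohB1.ProjSpace (m + 1) k)) := by
            simpa using I.subschemeι.isClosedEmbedding.isClosedMap _ hy
          obtain ⟨j, hj⟩ := Opens.mem_iSup.mp (show I.subschemeι y ∈ ⨆ j, QCohLib.stdOpen (m + 1) k j by
            rw [QCohLib.iSup_stdOpen]; trivial)
          obtain ⟨v, hz, hvj, h0, -, hiff⟩ := secPoint (m + 1) (by omega) (𝟙 _) hM Q₂ j y hj hc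
          exact hiff.2 fun hB => hb ⟨v, fun h => one_ne_zero (α := k) (by rw [← hvj, h]; rfl), hB⟩
      exact SmoothOfRelativeDimension.smooth m _
  simp [hsm, hmain]

end quadric

end OrdQuad
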