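import Groth.Agent.OrdQuadLib.SecQuad
import Mathlib

/-!
# Forms cutting a variety in an ordinary quadratic singularity at a given point
-/

set_option autoImplicit false
set_option linter.unusedSectionVars false
set_option linter.style.haveILetI false

universe u

open CategoryTheory AlgebraicGeometry TopologicalSpace MvPolynomial IsLocalRing CIGen

namespace OrdQuad

variable {k : Type u} [Field k]

theorem pderiv_shift {n : ℕ} (q : MvPolynomial (Fin n) k) (b : Fin (n + 2)) (hb : b = 0 ∨ b = 1) :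
    pderiv b (rename (fun a : Fin n => a.succ.succ) q) = 0 := by
  induction q using MvPolynomial.induction_on with
  | C a => simp
  | add p q hp hq => simp [hp, hq]
  | mul_X p a hp =>
    have : a.succ.succ ≠ b := by
      rcases hb with rfl | rfl
      · exact Fin.succ_ne_zero _
      · exact fun h => Fin.succ_ne_zero a (Fin.succ_injective _ (h.trans (Fin.succ_zero_eq_one).symm))
    simp [pderiv_mul, hp, pderiv_X, Pi.single_apply, this, Ne.symm this]

theorem exists_nondeg : ∀ n : ℕ, ∃ q : MvPolynomial (Fin n) k, q.IsHomogeneous 2 ∧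
    ∀ w : Fin n → k, eval w q = 0 → (∀ a, eval w (pderiv a q) = 0) → w = 0
  | 0 => ⟨0, isHomogeneous_zero _ _ _, fun w _ _ => funext fun a => a.elim0⟩
  | 1 => ⟨X 0 ^ 2, by simpa using (isHomogeneous_X k (0 : Fin 1)).pow 2, fun w h _ => funext fun a => by
      rw [Fin.fin_one_eq_zero a]; simpa using h⟩
  | n + 2 => by
    obtain ⟨q, hq, hw⟩ := exists_nondeg n
    refine ⟨X 0 * X 1 + rename (fun a : Fin n => a.succ.succ) q,
      ((isHomogeneous_X k _).mul (isHomogeneous_X k _)).add hq.rename_isHomogeneous, fun w h hd => ?_⟩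
    have h0 : w 1 = 0 := by
      simpa [pderiv_shift q 0 (Or.inl rfl), pderiv_X, Pi.single_apply] using hd 0
    have h1 : w 0 = 0 := by
      simpa [pderiv_shift q 1 (Or.inr rfl), pderiv_X, Pi.single_apply] using hd 1
    have hinj : Function.Injective (fun a : Fin n => a.succ.succ) := fun a b hab =>
      Fin.succ_injective _ (Fin.succ_injective _ hab)
    have hrest := hw (fun a => w a.succ.succ) (by
      simpa [h0, h1, eval_rename, Function.comp_def] using h) fun a => by
      have h2 := hd a.succ.succ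
      rw [map_add, pderiv_mul, pderiv_rename hinj] at h2
      have ha0 : (0 : Fin (n + 2)) ≠ a.succ.succ := (Fin.succ_ne_zero _).symm
      have ha1 : (1 : Fin (n + 2)) ≠ a.succ.succ := fun h =>
        Fin.succ_ne_zero a (Fin.succ_injective _ (h.symm.trans (Fin.succ_zero_eq_one).symm))
      simpa [pderiv_X, Pi.single_apply, ha0, ha1, eval_rename, Function.comp_def] using h2
    funext b
    refine Fin.cases h1 (fun b => ?_) b
    refine Fin.cases h0 (fun b => ?_) b
    exact congrFun hrest b

variable [IsAlgClosed k] {r : ℕ} {X : Scheme.{u}}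

/-- Through every closed point there is a form with an ordinary quadratic singularity there. -/
theorem exists_form (m : ℕ) (i : X ⟶ CohB1.ProjSpace r k) [IsClosedImmersion i] [IrreducibleSpace X]
    [SmoothOfRelativeDimension (m + 1) (i ≫ CohB1.ProjSpace.toSpec r k)] (x₀ : X) (hx₀ : IsClosed ({x₀} : Set X))
    (d : ℕ) (hd : 2 ≤ d) :
    ∃ (H : LefPen.Form r k d) (y : LefPen.Sec i ({H} : Set (LefPen.Form r k d))),
      LefPen.secι i ({H} : Set (LefPen.Form r k d)) y = x₀ ∧
      LefPen.IsOrdQuadSing k m (LefPen.secToSpec i ({H} : Set (LefPen.Form r k d))) y := by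
  classical
  obtain ⟨K, _, _, ξ, N, F, e, hM⟩ := exists_isModel (m + 1) i
  have hF := hM.eqn
  haveI := (closedPt (m + 1) i hx₀).1
  obtain ⟨j, hj⟩ := Opens.mem_iSup.mp (show i x₀ ∈ ⨆ j, QCohLib.stdOpen r k j by rw [QCohLib.iSup_stdOpen]; trivial)
  let hV := (chart_affine j).preimage i
  let hx : x₀ ∈ chartPre i j := hj
  let mm := (hV.primeIdealOf ⟨x₀, hx⟩).asIdeal
  haveI : mm.IsMaximal := hV.primeIdealOf_isMaximal_of_isClosed ⟨x₀, hx⟩ hx₀
  haveI : (mm.comap (chartHom i j)).IsMaximal := Ideal.comap_isMaximal_of_surjective _ (chartHom_surjective i j)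
  obtain ⟨v, hv⟩ := exists_point (mm.comap (chartHom i j))
  have hη : genericPoint X ∈ chartPre i j :=
    (genericPoint_spec X).mem_open_set_iff (chartPre i j).isOpen |>.2 ⟨x₀, trivial, hx⟩
  have hle : chartIdeal ξ j ≤ RingHom.ker (eval v) := by
    rw [← hM.ker j hη, ← hv]; exact fun p hp => by rw [Ideal.mem_comap, RingHom.mem_ker.1 hp]; exact mm.zero_mem
  have hzero := zero_of_chartIdeal_le hF hle
  have hvj : v j = 1 := by
    simpa [RingHom.mem_ker, sub_eq_zero] using hle (X_sub_one_mem ξ (hM.ne j hη))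
  letI := X.presheaf.algebra_section_stalk ⟨x₀, hx⟩
  haveI : IsLocalization.AtPrime (X.presheaf.stalk x₀) mm := hV.isLocalization_stalk ⟨x₀, hx⟩
  letI : Algebra k (X.presheaf.stalk x₀) := (LefPen.toStalk k (i ≫ CohB1.ProjSpace.toSpec r k) x₀).toAlgebra
  obtain ⟨φ, L, -, hP, -, -⟩ := exists_param (R := X.presheaf.stalk x₀) hF hzero hvj
    (finrank_grad hF (m + 1) hM.dim hM.reg hzero (fun h0 => one_ne_zero (α := k) (by rw [← hvj, h0]; rfl)))
    (chartHom i j) (chartHom_surjective i j) (hM.ker j hη) mm hv (fun c => toStalk_chart i j hx c)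
  -- dual linear forms
  let Lm : (Fin (m + 1) → k) →ₗ[k] (Fin (r + 1) → k) := LinearMap.pi fun q => ∑ a, L q a • LinearMap.proj a
  have hLm : ∀ w, Lm w = lin L w := fun w => funext fun q => by simp [Lm, lin]
  obtain ⟨P, hP'⟩ := Lm.exists_leftInverse_of_injective (LinearMap.ker_eq_bot'.2 fun w hw => hP.inj w (by rw [← hLm, hw]))
  let y : Fin (m + 1) → MvPolynomial (Fin (r + 1)) k := fun a =>
    ∑ q, C (P (Pi.single q 1) a) * (MvPolynomial.X q - C (v q) * MvPolynomial.X j)
  have hLj : ∀ a, L j a = 0 := fun a => by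
    have := ((hP.range (lin L (Pi.single a 1))).2 ⟨_, rfl⟩).1
    simpa [lin, Pi.single_apply] using this
  have hXj : affSub v L (MvPolynomial.X j) = 1 := by simp [affSub, hvj, hLj]
  have hy : ∀ a, affSub v L (y a) = MvPolynomial.X a := fun a => by
    have h1 : ∀ q, affSub v L (MvPolynomial.X q - C (v q) * MvPolynomial.X j) = ∑ b, C (L q b) * MvPolynomial.X b := fun q => by
      rw [map_sub, map_mul, hXj, mul_one]
      simp [affSub]
    simp only [y, map_sum, map_mul, h1, Finset.mul_sum]
    rw [Finset.sum_comm, Finset.sum_eq_single a]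
    · have h2 := congrFun (LinearMap.congr_fun hP' (Pi.single a 1)) a
      rw [LinearMap.comp_apply, hLm, pi_eq_sum_univ' (lin L (Pi.single a 1)), map_sum] at h2
      simp only [affSub, aeval_C, MvPolynomial.algebraMap_eq, ← mul_assoc, ← Finset.sum_mul, ← map_mul, ← map_sum]
      conv_rhs => rw [← one_mul (MvPolynomial.X a), ← map_one C]
      congr 2
      simpa [lin, Pi.single_apply, mul_comm] using h2
    · intro b _ hb
      have h2 := congrFun (LinearMap.congr_fun hP' (Pi.single b 1)) a
      rw [LinearMap.comp_apply, hLm, pi_eq_sum_univ' (lin L (Pi.single b 1)), map_sum] at h2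
      simp only [affSub, aeval_C, MvPolynomial.algebraMap_eq, ← mul_assoc, ← Finset.sum_mul, ← map_mul, ← map_sum]
      rw [show ∑ q, P (Pi.single q 1) a * L q b = 0 by simpa [lin, Pi.single_apply, hb.symm, mul_comm] using h2,
        map_zero, zero_mul]
    · intro h; exact absurd (Finset.mem_univ a) h
  obtain ⟨q₀, hq₀, hq₀n⟩ := exists_nondeg (k := k) (m + 1)
  have hyh : ∀ a, (y a).IsHomogeneous 1 := fun a => IsHomogeneous.sum _ _ _ fun q _ => by
    simpa using (isHomogeneous_C _ _).mul ((isHomogeneous_X k q).sub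
      (by simpa using (isHomogeneous_C _ (v q)).mul (isHomogeneous_X k j)))
  let G : MvPolynomial (Fin (r + 1)) k := MvPolynomial.X j ^ (d - 2) * aeval y q₀
  have hG : G.IsHomogeneous d := by
    have := ((isHomogeneous_X k j).pow (d - 2)).mul (hq₀.aeval _ hyh)
    rwa [show 1 * (d - 2) + 1 * 2 = d by omega] at this
  have hGaff : affSub v L G = q₀ := by
    have h1 : affSub v L (aeval y q₀) = q₀ := by
      have : (affSub v L).comp (aeval y) = AlgHom.id k _ := algHom_ext fun a => by simpa using hy a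
      exact AlgHom.congr_fun this q₀
    rw [map_mul, map_pow, hXj, one_pow, one_mul, h1]
  have hGv : G ∈ RingHom.ker (eval v) ^ 2 := by
    refine Ideal.mul_mem_left _ _ ?_
    have h1 : (MvPolynomial.idealOfVars (Fin (m + 1)) k).map (aeval y).toRingHom ≤ RingHom.ker (eval v) := by
      rw [MvPolynomial.idealOfVars, Ideal.map_span, Ideal.span_le]
      rintro _ ⟨_, ⟨a, rfl⟩, rfl⟩
      simp [y, RingHom.mem_ker, map_sum, hvj]
    refine Ideal.pow_right_mono h1 2 ?_
    rw [← Ideal.map_pow]
    exact Ideal.mem_map_of_mem _ ((mem_pow_idealOfVars_iff' _ _).2 fun s hs => hq₀.coeff_eq_zero (by omega))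
  let H : LefPen.Form r k d := ⟨G, (mem_homogeneousSubmodule d _).2 hG⟩
  have h0 : eval v H.1 = 0 := (Ideal.pow_le_self two_ne_zero hGv : G ∈ RingHom.ker (eval v))
  have hgr : grad v H.1 = 0 := grad_sq v hGv
  have hbad : BadAt F v H.1 := ⟨hzero, h0, by rw [hgr]; exact Submodule.zero_mem _⟩
  obtain ⟨yy, hxy, hyc, hc, hvy⟩ := exists_secPoint (m + 1) i hM H hzero hvj h0
  refine ⟨H, yy, ?_, (ordQuad_iff m i hM H j yy hyc hxy hc hvy hbad nondegQuad_iff).2 fun t ht => ?_⟩
  · have h1 := Ideal.comap_injective_of_surjective _ (chartHom_surjective i j) (hvy.trans hv.symm)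
    have h2 := congrArg hV.fromSpec (PrimeSpectrum.ext h1 : hV.primeIdealOf ⟨_, hxy⟩ = hV.primeIdealOf ⟨x₀, hx⟩)
    rwa [hV.fromSpec_primeIdealOf, hV.fromSpec_primeIdealOf] at h2
  have hφ : φ (H.1 - ∑ l, C (t l) * F l) = φ H.1 := by
    rw [map_sub, map_sum, Finset.sum_eq_zero fun l _ => by rw [map_mul, hP.kill _ (mem_chartIdeal hF j l), mul_zero],
      sub_zero]
  have h1 := (part2_image φ v L hP.congr (f := H.1 - ∑ l, C (t l) * F l)
    (by simp [map_sum, h0, show ∀ l, eval v (F l) = 0 from hzero]) (by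
      funext q
      have h := congrFun ht q
      simp only [grad] at h
      simp [grad, map_sum, h])).2
  rw [hφ, (part2_image φ v L hP.congr h0 hgr).2] at h1
  rw [degW_iff hP, ← h1, qform, hGaff, homogeneousComponent_of_mem ((mem_homogeneousSubmodule 2 _).2 hq₀), if_pos rfl]
  rintro ⟨w, hw, hw0, hwd⟩
  exact hw (hq₀n w hw0 hwd)

end OrdQuad
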