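import Groth.Agent.OrdQuadLib.Separate
import Groth.Agent.OrdQuadLib.SecQuad
import Groth.Agent.CIGenLib.DualVar
import Mathlib

/-!
# Sections with one ordinary quadratic singularity form an open subset of the dual variety
-/

set_option autoImplicit false
set_option linter.unusedSectionVars false
set_option linter.style.haveILetI false

universe u

open CategoryTheory AlgebraicGeometry TopologicalSpace MvPolynomial IsLocalRing GradedCechLib CIGen Matrix

namespace OrdQuad

variable {k : Type u} [Field k] [IsAlgClosed k] {r d N cc : ℕ}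

section algebra

variable {K : Type u} [Field K] [Algebra k K] {ξ : Fin (r + 1) → K} {F : Fin N → MvPolynomial (Fin (r + 1)) k}
  {e : Fin N → ℕ} {S : Fin cc → Fin N} {j : Fin (r + 1)}

theorem sum_spread {M : Type*} [AddCommGroup M] [Module k M] (S : Fin cc → Fin N) (t : Fin cc → k) (g : Fin N → M) :
    ∑ l, (∑ a, (Pi.single (S a) (t a) : Fin N → k)) l • g l = ∑ a, t a • g (S a) := by
  simp only [Finset.sum_apply, Finset.sum_smul]
  rw [Finset.sum_comm]
  refine Finset.sum_congr rfl fun a _ => ?_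
  rw [Finset.sum_eq_single (S a) (fun b _ hb => by rw [Pi.single_eq_of_ne hb, zero_smul])
    (fun h => absurd (Finset.mem_univ _) h), Pi.single_eq_same]

theorem fR_eq (c : Exp r d → k) (t : Fin cc → k) :
    fR F S c t = form1 c - ∑ l, C ((∑ a, (Pi.single (S a) (t a) : Fin N → k)) l) * F l := by
  simp only [← smul_eq_C_mul, sum_spread]
  simp [fR, formR, form1, smul_eq_C_mul, MvPolynomial.map_id]

theorem crit_iff {c : Exp r d → k} {v : Fin (r + 1) → k} {t : Fin cc → k} :
    Crit F S c v t ↔ Zero F v ∧ eval v (form1 c) = 0 ∧ ∑ a, t a • grad v (F (S a)) = grad v (form1 c) := by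
  refine and_congr (forall_congr' fun l => by rw [aeval_eq_eval]) (and_congr Iff.rfl ?_)
  rw [funext_iff]
  refine forall_congr' fun q => ?_
  rw [eval_pderiv_fR (j := 0), sub_eq_zero, eq_comm]
  simp only [mulVec, dotProduct, Fintype.sum_option, Option.elim, mul_zero, zero_add, col_apply_some, Finset.sum_apply,
    Pi.smul_apply, smul_eq_mul]
  exact Eq.congr (Finset.sum_congr rfl fun a _ => mul_comm _ _) rfl

/-- Membership in the ideal of a chart is vanishing at the generic point. -/
theorem mem_chartIdeal_iff {G : MvPolynomial (Fin (r + 1)) k} (hG : G.IsHomogeneous d) {a : Fin (r + 1)} (ha : ξ a ≠ 0) :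
    G ∈ chartIdeal ξ a ↔ aeval ξ G = 0 := by
  rw [chartIdeal, RingHom.mem_ker, show (fun i => ξ i / ξ a) = fun i => (ξ a)⁻¹ * ξ i from
    funext fun i => div_eq_inv_mul _ _, aeval_smul hG]
  exact mul_eq_zero_iff_left (pow_ne_zero _ (inv_ne_zero ha))

/-- A form that vanishes on the variety is tangent everywhere. -/
theorem badAt_of_vanish (hF : IsEqn ξ F e) {G : MvPolynomial (Fin (r + 1)) k} (hG : G.IsHomogeneous d) (h : aeval ξ G = 0)
    {v : Fin (r + 1) → k} (hv : Zero F v) : BadAt F v G := by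
  obtain ⟨p, hp⟩ := (Ideal.mem_span_range_iff_exists_fun).1 (hF.gen d G hG h)
  refine ⟨hv, ?_, (Submodule.mem_span_range_iff_exists_fun k).2 ⟨fun l => eval v (p l), funext fun q => ?_⟩⟩
  · rw [← hp, map_sum]
    exact Finset.sum_eq_zero fun l _ => by rw [map_mul, show eval v (F l) = 0 from hv l, mul_zero]
  · simp only [← hp, grad, map_sum, Finset.sum_apply, Pi.smul_apply, smul_eq_mul]
    refine Finset.sum_congr rfl fun l _ => ?_
    rw [pderiv_mul, map_add, map_mul, map_mul, show eval v (F l) = 0 from hv l, mul_zero, zero_add]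

/-- A chart of positive dimension has more than one point. -/
theorem false_of_unique_point (hF : IsEqn ξ F e) {n : ℕ} (hn : n ≠ 0)
    (hdim : ringKrullDim (MvPolynomial (Fin (r + 1)) k ⧸ chartIdeal (k := k) ξ j) = (n : WithBot ℕ∞)) (hξ : ξ j ≠ 0)
    {w : Fin (r + 1) → k} (hu : ∀ v, Zero F v → v j = 1 → v = w) : False := by
  have hsub : ∀ M : Ideal (MvPolynomial (Fin (r + 1)) k), chartIdeal ξ j ≤ M → M.IsMaximal → M = RingHom.ker (eval w) :=
    fun M hle hM => by
      haveI := hM
      obtain ⟨v, rfl⟩ := exists_point M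
      have hvj : v j = 1 := by simpa [RingHom.mem_ker, sub_eq_zero] using hle (X_sub_one_mem ξ hξ)
      rw [hu v (zero_of_chartIdeal_le hF hle) hvj]
  haveI : IsJacobsonRing (MvPolynomial (Fin (r + 1)) k) := inferInstance
  have hjac : (chartIdeal (k := k) ξ j).jacobson = chartIdeal ξ j :=
    IsJacobsonRing.out inferInstance (Ideal.IsPrime.isRadical inferInstance)
  obtain ⟨M, hM, hle⟩ := Ideal.exists_le_maximal _ (Ideal.IsPrime.ne_top (I := chartIdeal (k := k) ξ j) inferInstance)
  have heq : chartIdeal ξ j = M := by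
    refine le_antisymm hle ?_
    rw [← hjac, hsub M hle hM]
    refine le_sInf fun M' hM' => ?_
    rw [hsub M' hM'.1 hM'.2]
  haveI : (chartIdeal (k := k) ξ j).IsMaximal := heq ▸ hM
  letI := Ideal.Quotient.field (chartIdeal (k := k) ξ j)
  rw [ringKrullDim_eq_zero_of_field] at hdim
  exact hn (by exact_mod_cast hdim.symm)

/-- One choice of multipliers decides nondegeneracy. -/
theorem nondeg_of_one (hF : IsEqn ξ F e) {n : ℕ}
    (hreg : ∀ j, ξ j ≠ 0 → ∀ (m : Ideal (MvPolynomial (Fin (r + 1)) k ⧸ chartIdeal (k := k) ξ j)) [m.IsMaximal],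
      IsRegularLocalRing (Localization.AtPrime m))
    {v : Fin (r + 1) → k} (hv : Zero F v) (hj : v j = 1)
    (hW : Module.finrank k (Submodule.span k (Set.range fun l => grad v (F l))) + n = r)
    {G : MvPolynomial (Fin (r + 1)) k} (h0 : eval v G = 0) {t₀ : Fin N → k} (ht₀ : grad v G = ∑ l, t₀ l • grad v (F l))
    (hd : ¬ DegW F j v (G - ∑ l, C (t₀ l) * F l)) : Nondeg F j v G := by
  classical
  let A := MvPolynomial (Fin (r + 1)) k ⧸ chartIdeal (k := k) ξ j
  let β : MvPolynomial (Fin (r + 1)) k →+* A := Ideal.Quotient.mk _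
  haveI : (RingHom.ker (eval v)).IsMaximal := RingHom.ker_isMaximal_of_surjective _ fun x => ⟨C x, eval_C x⟩
  have hle : RingHom.ker β ≤ RingHom.ker (eval v) := by rw [Ideal.mk_ker]; exact chartIdeal_le hF hv hj
  let mm : Ideal A := (RingHom.ker (eval v)).map β
  haveI : mm.IsMaximal := Ideal.IsMaximal.map_of_surjective_of_ker_le Ideal.Quotient.mk_surjective hle
  have hm : mm.comap β = RingHom.ker (eval v) := by
    rw [Ideal.comap_map_of_surjective _ Ideal.Quotient.mk_surjective, ← RingHom.ker_eq_comap_bot, sup_eq_left.2 hle]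
  haveI := hreg j (ne_zero_of_zero hF hv (by rw [hj]; exact one_ne_zero)) mm
  obtain ⟨φ, L, -, hP, -, -⟩ := exists_param (R := Localization.AtPrime mm) hF hv hj hW β Ideal.Quotient.mk_surjective
    Ideal.mk_ker mm hm (fun c => IsScalarTower.algebraMap_apply k A (Localization.AtPrime mm) c)
  have hform : ∀ t : Fin N → k, grad v G = ∑ l, t l • grad v (F l) →
      part2 (φ G) = qform v L (G - ∑ l, C (t l) * F l) := fun t ht => by
    have hφG : φ (G - ∑ l, C (t l) * F l) = φ G := by
      rw [map_sub, map_sum, Finset.sum_eq_zero fun l _ => by rw [map_mul, hP.kill _ (mem_chartIdeal hF j l), mul_zero],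
        sub_zero]
    rw [← hφG]
    refine (part2_image φ v L hP.congr (by simp [map_sum, h0, show ∀ l, eval v (F l) = 0 from hv]) ?_).2
    funext q
    have h := congrFun ht q
    simp only [grad] at h
    simp [grad, map_sum, h]
  intro t ht
  rw [degW_iff hP, ← hform t ht, hform t₀ ht₀, ← degW_iff hP]
  exact hd

/-- Multipliers and a left inverse at a point of tangency. -/
theorem exists_base_data (hF : IsEqn ξ F e) {v : Fin (r + 1) → k} (hv : Zero F v) (hj : v j = 1)
    (hW : Module.finrank k (Submodule.span k (Set.range fun l => grad v (F l))) = cc) :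
    ∃ (S : Fin cc → Fin N) (P : Matrix (Option (Fin cc)) (Fin (r + 1)) k), IsUnit (Mx F S j P v).det ∧
      Submodule.span k (Set.range fun a => grad v (F (S a))) = Submodule.span k (Set.range fun l => grad v (F l)) := by
  classical
  obtain ⟨f, hf, hspan, hli⟩ := Submodule.exists_fun_fin_finrank_span_eq k (Set.range fun l => grad v (F l))
  choose S' hS' using hf
  let S : Fin cc → Fin N := fun a => S' (Fin.cast hW.symm a)
  have hfS : (fun a => grad v (F (S a))) = f ∘ Fin.cast hW.symm := funext fun a => hS' _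
  have hrange : Set.range (fun a => grad v (F (S a))) = Set.range f := by
    rw [hfS]; exact Function.Surjective.range_comp (fun b => ⟨Fin.cast hW b, rfl⟩) f
  have hliS : LinearIndependent k fun a => grad v (F (S a)) := hfS ▸ hli.comp _ (Fin.cast_injective _)
  have hinj : ∀ p : Option (Fin cc) → k, Matrix.mulVecLin (col F S j v) p = 0 → p = 0 := by
    intro p hp
    rw [Matrix.mulVecLin_apply] at hp
    have hq : ∀ q, p none * (if q = j then 1 else 0) + ∑ a, p (some a) * grad v (F (S a)) q = 0 := fun q => by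
      have h := congrFun hp q
      simp only [mulVec, dotProduct, Fintype.sum_option, col_apply_some, col_apply_none, Pi.zero_apply] at h
      refine Eq.trans ?_ h
      rw [mul_comm (p none)]
      exact congrArg₂ (· + ·) rfl (Finset.sum_congr rfl fun a _ => mul_comm _ _)
    have hnone : p none = 0 := by
      have h0 : ∑ q, v q * (p none * (if q = j then 1 else 0) + ∑ a, p (some a) * grad v (F (S a)) q) = 0 :=
        Finset.sum_eq_zero fun q _ => by rw [hq q, mul_zero]
      have he : ∀ l, ∑ q, v q * grad v (F l) q = 0 := fun l => by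
        have := euler (hF.homog l) v
        rw [hv l, mul_zero] at this
        exact this
      simp only [mul_add, Finset.sum_add_distrib, mul_ite, mul_one, mul_zero, Finset.sum_ite_eq', Finset.mem_univ, if_true,
        hj, one_mul, Finset.mul_sum] at h0
      rw [Finset.sum_comm, Finset.sum_eq_zero fun a _ => by
        rw [show ∑ q, v q * (p (some a) * grad v (F (S a)) q) = p (some a) * ∑ q, v q * grad v (F (S a)) q by
          rw [Finset.mul_sum]; exact Finset.sum_congr rfl fun q _ => mul_left_comm _ _ _, he, mul_zero], add_zero] at h0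
      exact h0
    funext o
    rcases o with _ | a
    · exact hnone
    · refine Fintype.linearIndependent_iff.1 hliS (fun a => p (some a)) (funext fun q => ?_) a
      have h := hq q
      rw [hnone, zero_mul, zero_add] at h
      simpa [Finset.sum_apply, Pi.smul_apply] using h
  obtain ⟨g, hg⟩ := (Matrix.mulVecLin (col F S j v)).exists_leftInverse_of_injective (LinearMap.ker_eq_bot'.2 hinj)
  refine ⟨S, LinearMap.toMatrix' g, ?_, by rw [hrange, hspan]⟩
  have h1 : LinearMap.toMatrix' g * col F S j v = 1 := by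
    rw [← LinearMap.toMatrix'_id, ← hg, LinearMap.toMatrix'_comp]
    congr 1
    exact (LinearMap.toMatrix'_toLin' (col F S j v)).symm
  have hMx : Mx F S j (LinearMap.toMatrix' g) v = LinearMap.toMatrix' g * col F S j v := by
    rw [Mx]; congr 1
  rw [hMx, h1, Matrix.det_one]
  exact isUnit_one

end algebra

section scheme

variable {X : Scheme.{u}} (i : X ⟶ CohB1.ProjSpace r k)

/-- Coordinates of a closed point in two charts. -/
theorem point_change {x : X} {j a : Fin (r + 1)} (hxj : x ∈ chartPre i j) (hxa : x ∈ chartPre i a) [IsClosedImmersion i]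
    {v w : Fin (r + 1) → k}
    (hv : (((chart_affine j).preimage i).primeIdealOf ⟨x, hxj⟩).asIdeal.comap (chartHom i j) = RingHom.ker (eval v))
    (hw : (((chart_affine a).preimage i).primeIdealOf ⟨x, hxa⟩).asIdeal.comap (chartHom i a) = RingHom.ker (eval w))
    (q : Fin (r + 1)) : w q = w j * v q := by
  let W := QCohLib.stdOpen r k j ⊓ QCohLib.stdOpen r k a
  have hW : i x ∈ W := ⟨hxj, hxa⟩
  let G : ∀ l, x ∈ chartPre i l → MvPolynomial (Fin (r + 1)) k →+* X.presheaf.stalk x := fun l hl =>
    (X.presheaf.germ (chartPre i l) x hl).hom.comp (chartHom i l)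
  have hgp : ∀ {l} (hl : x ∈ chartPre i l) (hle : W ≤ QCohLib.stdOpen r k l) p,
      G l hl p = i.stalkMap x ((CohB1.ProjSpace r k).presheaf.germ W (i x) hW (resO r k hle (deh r k l p))) :=
    fun {l} hl hle p => (germ_chartHom i hl p).trans (congrArg _ (germ_resO hle hW _).symm)
  have hrel : G j hxj (MvPolynomial.X q) * G a hxa (MvPolynomial.X j) = G a hxa (MvPolynomial.X q) := by
    rw [hgp hxj inf_le_left, hgp hxa inf_le_right, hgp hxa inf_le_right, ← map_mul, ← map_mul,
      ← resO_deh_X r k a j q inf_le_right inf_le_left]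
  let res := residue (X.presheaf.stalk x)
  have hres : ∀ {l : Fin (r + 1)} (hl : x ∈ chartPre i l) {u : Fin (r + 1) → k},
      (((chart_affine l).preimage i).primeIdealOf ⟨x, hl⟩).asIdeal.comap (chartHom i l) = RingHom.ker (eval u) →
      ∀ b, res (G l hl (MvPolynomial.X b)) = res (LefPen.toStalk k (i ≫ CohB1.ProjSpace.toSpec r k) x (u b)) := by
    intro l hl u hu b
    rw [toStalk_chart i l hl, ← sub_eq_zero, ← map_sub, IsLocalRing.residue_eq_zero_iff]
    show (X.presheaf.germ (chartPre i l) x hl).hom (chartHom i l (MvPolynomial.X b)) -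
      (X.presheaf.germ (chartPre i l) x hl).hom (chartHom i l (C (u b))) ∈ _
    rw [← map_sub, ← map_sub]
    letI := X.presheaf.algebra_section_stalk ⟨x, hl⟩
    haveI := ((chart_affine l).preimage i).isLocalization_stalk ⟨x, hl⟩
    refine (IsLocalization.AtPrime.to_map_mem_maximal_iff (X.presheaf.stalk x)
      (((chart_affine l).preimage i).primeIdealOf ⟨x, hl⟩).asIdeal _).2 ?_
    rw [← Ideal.mem_comap, hu, RingHom.mem_ker]
    simp
  have h := congrArg res hrel
  rw [map_mul, hres hxj hv, hres hxa hw, hres hxa hw, ← map_mul, ← map_mul, mul_comm] at h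
  exact ((res.comp (LefPen.toStalk k (i ≫ CohB1.ProjSpace.toSpec r k) x)).injective h).symm

/-- A closed point with nonzero `j`-th coordinate lies in the `j`-th chart. -/
theorem mem_chart_of_ne {x : X} {j a : Fin (r + 1)} (hxa : x ∈ chartPre i a) [IsClosedImmersion i] {w : Fin (r + 1) → k}
    (hw : (((chart_affine a).preimage i).primeIdealOf ⟨x, hxa⟩).asIdeal.comap (chartHom i a) = RingHom.ker (eval w))
    (hwj : w j ≠ 0) : x ∈ chartPre i j := by
  letI := X.presheaf.algebra_section_stalk ⟨x, hxa⟩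
  haveI := ((chart_affine a).preimage i).isLocalization_stalk ⟨x, hxa⟩
  have hu : IsUnit (X.presheaf.germ (chartPre i a) x hxa (chartHom i a (MvPolynomial.X j))) := by
    refine (IsLocalization.AtPrime.isUnit_to_map_iff (X.presheaf.stalk x)
      (((chart_affine a).preimage i).primeIdealOf ⟨x, hxa⟩).asIdeal _).2 fun hmem => ?_
    have h2 : MvPolynomial.X j ∈ RingHom.ker (eval w) := hw ▸ (Ideal.mem_comap.2 hmem)
    rw [RingHom.mem_ker, eval_X] at h2
    exact hwj h2
  rw [germ_chartHom i hxa] at hu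
  replace hu := (isUnit_map_iff (i.stalkMap x).hom _).1 hu
  replace hu : i x ∈ (CohB1.ProjSpace r k).basicOpen (deh r k a (MvPolynomial.X j)) :=
    (Scheme.mem_basicOpen (CohB1.ProjSpace r k) _ (i x) hxa).2 hu
  erw [basicOpen_deh_X r k a j] at hu
  exact hu.2

variable [IsClosedImmersion i] [IrreducibleSpace X] (m : ℕ) [SmoothOfRelativeDimension (m + 1) (i ≫ CohB1.ProjSpace.toSpec r k)]
  {K : Type u} [Field K] [Algebra k K] {ξ : Fin (r + 1) → K} {F : Fin N → MvPolynomial (Fin (r + 1)) k} {e : Fin N → ℕ}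
  (hM : IsModel (m + 1) i ξ F e) (H : LefPen.Form r k d)

include hM in
/-- Sections that are not transversal have a point of tangency. -/
theorem bad_of_not_transversal
    (hnt : ¬ LefPen.Transversal k (m + 1) 1 (LefPen.secToSpec i ({H} : Set (LefPen.Form r k d)))) : Bad' F H.1 := by
  classical
  by_contra hgood
  set g := LefPen.secToSpec i ({H} : Set (LefPen.Form r k d))
  let I := LefPen.secIdeal i ({H} : Set (LefPen.Form r k d))
  haveI : LocallyOfFiniteType (i ≫ CohB1.ProjSpace.toSpec r k) :=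
    haveI : Smooth (i ≫ CohB1.ProjSpace.toSpec r k) := SmoothOfRelativeDimension.smooth (m + 1) _
    inferInstance
  haveI : LocallyOfFiniteType g := by
    show LocallyOfFiniteType (I.subschemeι ≫ i ≫ CohB1.ProjSpace.toSpec r k)
    infer_instance
  refine hnt (Or.inl ⟨by omega, smooth_of_closedPts g m fun y hy => ?_⟩)
  have hc : IsClosed ({I.subschemeι y} : Set X) := by
    simpa using I.subschemeι.isClosedEmbedding.isClosedMap _ hy
  obtain ⟨j, hj⟩ := Opens.mem_iSup.mp (show i (I.subschemeι y) ∈ ⨆ j, QCohLib.stdOpen r k j by rw [QCohLib.iSup_stdOpen]; trivial)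
  obtain ⟨v, -, hvj, -, -, hiff⟩ := secPoint (m + 1) (by omega) i hM H j y hj hc
  exact hiff.2 fun hb => hgood ⟨v, fun h0 => one_ne_zero (α := k) (by rw [← hvj, h0]; rfl), hb⟩

include hM in
/-- With a single singular point the form does not vanish on the variety. -/
theorem not_vanish_of_smoothSet {y₀ : LefPen.Sec i ({H} : Set (LefPen.Form r k d))}
    (hy₀ : IsClosed ({y₀} : Set (LefPen.Sec i ({H} : Set (LefPen.Form r k d)))))
    (hset : {y | LefPen.SmoothAt (LefPen.secToSpec i ({H} : Set (LefPen.Form r k d))) y} =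
      ({y₀}ᶜ : Set (LefPen.Sec i ({H} : Set (LefPen.Form r k d))))) : aeval ξ H.1 ≠ 0 := by
  classical
  intro hv
  set g := LefPen.secToSpec i ({H} : Set (LefPen.Form r k d))
  let I := LefPen.secIdeal i ({H} : Set (LefPen.Form r k d))
  haveI : LocallyOfFiniteType (i ≫ CohB1.ProjSpace.toSpec r k) :=
    haveI : Smooth (i ≫ CohB1.ProjSpace.toSpec r k) := SmoothOfRelativeDimension.smooth (m + 1) _
    inferInstance
  haveI : LocallyOfFiniteType g := by
    show LocallyOfFiniteType (I.subschemeι ≫ i ≫ CohB1.ProjSpace.toSpec r k)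
    infer_instance
  haveI : LocallyOfFinitePresentation g := inferInstance
  have hc : IsClosed ({I.subschemeι y₀} : Set X) := by
    simpa using I.subschemeι.isClosedEmbedding.isClosedMap _ hy₀
  obtain ⟨j, hj⟩ := Opens.mem_iSup.mp (show i (I.subschemeι y₀) ∈ ⨆ j, QCohLib.stdOpen r k j by rw [QCohLib.iSup_stdOpen]; trivial)
  have hη : genericPoint X ∈ chartPre i j :=
    (genericPoint_spec X).mem_open_set_iff (chartPre i j).isOpen |>.2 ⟨_, trivial, hj⟩
  have hker : chartHom i j H.1 = 0 := by
    rw [← RingHom.mem_ker, hM.ker j hη, mem_chartIdeal_iff ((mem_homogeneousSubmodule d _).1 H.2) (hM.ne j hη)]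
    exact hv
  let eq := (Ideal.quotEquivOfEq (ker_stalkMap_sec i H j y₀ hj).symm).trans
    (RingHom.quotientKerEquivOfSurjective (I.subschemeι.stalkMap_surjective y₀))
  haveI := (closedPt (m + 1) i hc).1
  have hbot : Ideal.span {X.presheaf.germ (chartPre i j) (I.subschemeι y₀) hj (chartHom i j H.1)} = ⊥ := by
    rw [hker, map_zero, Ideal.span_singleton_eq_bot]
  haveI : IsRegularLocalRing ((LefPen.Sec i ({H} : Set (LefPen.Form r k d))).presheaf.stalk y₀) :=
    IsRegularLocalRing.of_ringEquiv ((RingEquiv.quotientBot _).symm.trans ((Ideal.quotEquivOfEq hbot.symm).trans eq))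
  have : y₀ ∈ ({y₀}ᶜ : Set (LefPen.Sec i ({H} : Set (LefPen.Form r k d)))) := by
    rw [← hset]
    exact (DepthLib.regular_of_smooth_and_conversely g y₀).2 inferInstance inferInstance
  exact this rfl

include hM in
/-- A form whose only tangency point is nondegenerate gives one ordinary quadratic singularity. -/
theorem oneOrdQuad_of_point {j : Fin (r + 1)} {w : Fin (r + 1) → k} (hwj : w j = 1) (hw : BadAt F w H.1)
    (hnv : aeval ξ H.1 ≠ 0) (hnd : Nondeg F j w H.1)
    (huniq : ∀ v, v ≠ 0 → BadAt F v H.1 → v j ≠ 0 ∧ (v j = 1 → v = w)) : LefPen.OneOrdQuad k (m + 1) i H := by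
  classical
  have hF := hM.eqn
  set g := LefPen.secToSpec i ({H} : Set (LefPen.Form r k d))
  let I := LefPen.secIdeal i ({H} : Set (LefPen.Form r k d))
  haveI : LocallyOfFiniteType (i ≫ CohB1.ProjSpace.toSpec r k) :=
    haveI : Smooth (i ≫ CohB1.ProjSpace.toSpec r k) := SmoothOfRelativeDimension.smooth (m + 1) _
    inferInstance
  haveI : LocallyOfFiniteType g := by
    show LocallyOfFiniteType (I.subschemeι ≫ i ≫ CohB1.ProjSpace.toSpec r k)
    infer_instance
  haveI : LocallyOfFinitePresentation g := inferInstance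
  haveI : JacobsonSpace ↥(LefPen.Sec i ({H} : Set (LefPen.Form r k d))) := LocallyOfFiniteType.jacobsonSpace g
  have hHh := (mem_homogeneousSubmodule d _).1 H.2
  have hsm : ∀ (a : Fin (r + 1)), ξ a ≠ 0 → H.1 ∉ chartIdeal ξ a := fun a ha h =>
    hnv ((mem_chartIdeal_iff hHh ha).1 h)
  obtain ⟨y, hx, hyc, hxc, hcv⟩ := exists_secPoint (m + 1) i hM H hw.1 hwj hw.2.1
  have hns : ¬ LefPen.SmoothAt g y := fun h =>
    (smoothAt_iff m i hM H j (hsm j (ne_zero_of_zero hF hw.1 (by rw [hwj]; exact one_ne_zero))) y hx hxc hcv).1 h hw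
  have hpts : ∀ y' : LefPen.Sec i ({H} : Set (LefPen.Form r k d)), IsClosed ({y'} : Set (LefPen.Sec i ({H} : Set (LefPen.Form r k d)))) →
      ¬ LefPen.SmoothAt g y' → y' = y := by
    intro y' hy' hns'
    have hc' : IsClosed ({I.subschemeι y'} : Set X) := by
      simpa using I.subschemeι.isClosedEmbedding.isClosedMap _ hy'
    obtain ⟨a, ha⟩ := Opens.mem_iSup.mp (show i (I.subschemeι y') ∈ ⨆ j, QCohLib.stdOpen r k j by rw [QCohLib.iSup_stdOpen]; trivial)
    have hξa := hM.ne a ((genericPoint_spec X).mem_open_set_iff (chartPre i a).isOpen |>.2 ⟨_, trivial, ha⟩)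
    obtain ⟨v, -, hva, -, hv, -⟩ := secPoint (m + 1) (by omega) i hM H a y' ha hc'
    have hbad : BadAt F v H.1 := by
      by_contra hb
      exact hns' ((smoothAt_iff m i hM H a (hsm a hξa) y' ha hc' hv).2 hb)
    have hvj := (huniq v (fun h => one_ne_zero (α := k) (by rw [← hva, h]; rfl)) hbad).1
    have hxj : I.subschemeι y' ∈ chartPre i j := mem_chart_of_ne i ha hv hvj
    obtain ⟨u, -, huj, -, hu, -⟩ := secPoint (m + 1) (by omega) i hM H j y' hxj hc'
    have hvu : v = fun q => v j * u q := funext (point_change i hxj ha hu hv)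
    have hub : BadAt F u H.1 := by
      have := badAt_smul hF hHh (inv_ne_zero hvj) hbad
      convert this using 1
      funext q
      rw [congrFun hvu q, inv_mul_cancel_left₀ hvj]
    obtain rfl := (huniq u (fun h => one_ne_zero (α := k) (by rw [← huj, h]; rfl)) hub).2 huj
    refine I.subschemeι.isClosedEmbedding.injective ?_
    have hV := (chart_affine j).preimage i
    have h1 := Ideal.comap_injective_of_surjective _ (chartHom_surjective i j) (hu.trans hcv.symm)
    have h2 := congrArg hV.fromSpec (PrimeSpectrum.ext h1 : hV.primeIdealOf ⟨_, hxj⟩ = hV.primeIdealOf ⟨_, hx⟩)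
    rwa [hV.fromSpec_primeIdealOf, hV.fromSpec_primeIdealOf] at h2
  refine ⟨y, ?_, (ordQuad_iff m i hM H j y hyc hx hxc hcv hw nondegQuad_iff).2 hnd⟩
  ext y'
  rw [Set.mem_ofPred_eq, Set.mem_compl_iff, Set.mem_singleton_iff]
  refine ⟨fun h he => hns (he ▸ h), fun hne => by_contra fun hn' => hne ?_⟩
  have hZ : IsClosed ((g.smoothLocus : Set (LefPen.Sec i ({H} : Set (LefPen.Form r k d))))ᶜ) :=
    g.smoothLocus.isOpen.isClosed_compl
  have hy' : y' ∈ (g.smoothLocus : Set (LefPen.Sec i ({H} : Set (LefPen.Form r k d))))ᶜ :=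
    fun h => hn' (Scheme.Hom.mem_smoothLocus.1 h)
  rw [← closure_inter_closedPoints hZ] at hy'
  refine Set.mem_singleton_iff.1 ((closure_minimal ?_ hyc) hy')
  rintro z ⟨hz, hzc⟩
  exact hpts z hzc fun h => hz (Scheme.Hom.mem_smoothLocus.2 h)

end scheme

section main

variable {X : Scheme.{u}} (m : ℕ) (i : X ⟶ CohB1.ProjSpace r k) [IsClosedImmersion i] [IrreducibleSpace X]
  [SmoothOfRelativeDimension (m + 1) (i ≫ CohB1.ProjSpace.toSpec r k)]

/-- Around a section with one ordinary quadratic singularity the dual variety consists of such sections. -/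
theorem oneOrdQuad_open (H₀ : LefPen.Form r k d) (hH₀ : LefPen.OneOrdQuad k (m + 1) i H₀) :
    ∃ f : LefPen.Form r k d → k, LefPen.IsPolyFun k f ∧ f H₀ ≠ 0 ∧
      ∀ H : LefPen.Form r k d, ¬ LefPen.Transversal k (m + 1) 1 (LefPen.secToSpec i ({H} : Set (LefPen.Form r k d))) →
        f H ≠ 0 → LefPen.OneOrdQuad k (m + 1) i H := by
  classical
  obtain ⟨K, _, _, ξ, N, F, e, hM⟩ := exists_isModel (m + 1) i
  have hF := hM.eqn
  have hWr : ∀ v, Zero F v → v ≠ 0 →
      Module.finrank k (Submodule.span k (Set.range fun l => grad v (F l))) + (m + 1) = r :=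
    fun v hv h0 => finrank_grad hF (m + 1) hM.dim hM.reg hv h0
  obtain ⟨y₀, hset, hord⟩ := hH₀
  replace hord : LefPen.IsOrdQuadSing k m (LefPen.secToSpec i ({H₀} : Set (LefPen.Form r k d))) y₀ := hord
  let I := LefPen.secIdeal i ({H₀} : Set (LefPen.Form r k d))
  have hy₀ := hord.1
  have hx₀ : IsClosed ({I.subschemeι y₀} : Set X) := by
    simpa using I.subschemeι.isClosedEmbedding.isClosedMap _ hy₀
  obtain ⟨j, hj⟩ := Opens.mem_iSup.mp (show i (I.subschemeι y₀) ∈ ⨆ j, QCohLib.stdOpen r k j by rw [QCohLib.iSup_stdOpen]; trivial)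
  obtain ⟨v0, hz0, hv0j, hH0v, hv0, -⟩ := secPoint (m + 1) (by omega) i hM H₀ j y₀ hj hx₀
  have hnv := not_vanish_of_smoothSet i m hM H₀ hy₀ hset
  have hH₀h := (mem_homogeneousSubmodule d _).1 H₀.2
  have hsm : ∀ (a : Fin (r + 1)), ξ a ≠ 0 → H₀.1 ∉ chartIdeal ξ a := fun a ha h =>
    hnv ((mem_chartIdeal_iff hH₀h ha).1 h)
  have hne1 : ∀ {v : Fin (r + 1) → k} {a : Fin (r + 1)}, v a = 1 → v ≠ 0 := fun {v a} hv h =>
    one_ne_zero (α := k) (by rw [← hv, h]; rfl)
  have hξj := ne_zero_of_zero hF hz0 (j := j) (by rw [hv0j]; exact one_ne_zero)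
  have hns : ∀ y, ¬ LefPen.SmoothAt (LefPen.secToSpec i ({H₀} : Set (LefPen.Form r k d))) y ↔ y = y₀ := fun y => by
    have := Set.ext_iff.1 hset y
    simp only [Set.mem_ofPred_eq, Set.mem_compl_iff, Set.mem_singleton_iff] at this
    rw [this, not_not]
  have hb0 : BadAt F v0 H₀.1 := by
    by_contra hb
    exact (hns y₀).2 rfl ((smoothAt_iff m i hM H₀ j (hsm j hξj) y₀ hj hx₀ hv0).2 hb)
  have hnd : Nondeg F j v0 H₀.1 := (ordQuad_iff m i hM H₀ j y₀ hy₀ hj hx₀ hv0 hb0 nondegQuad_iff).1 hord
  let cc := r - (m + 1)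
  have hW : ∀ v, Zero F v → v ≠ 0 → Module.finrank k (Submodule.span k (Set.range fun l => grad v (F l))) = cc :=
    fun v hv h0 => by have := hWr v hv h0; omega
  obtain ⟨S, P, hdet, hspan⟩ := exists_base_data (j := j) hF hz0 hv0j (hW v0 hz0 (hne1 hv0j))
  obtain ⟨ι, _, E, ed, hEh, hiff⟩ := exists_bad_eqns (d := d) hF cc hW
  obtain ⟨t0, ht0⟩ := (Submodule.mem_span_range_iff_exists_fun k).1 (hspan ▸ hb0.2.2)
  have hb : Base F E ed S j P (coords H₀) v0 t0 := by
    refine ⟨hEh, hv0j, fun v hv hz => ?_, hdet, crit_iff.2 ⟨hz0, by rw [form1_coords]; exact hH0v, by rwa [form1_coords]⟩, ?_⟩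
    · have hbad := (hiff (coords H₀) v hv).2 hz
      rw [form1_coords] at hbad
      obtain ⟨a, ha⟩ := Function.ne_iff.1 hv
      have hwb := badAt_smul hF hH₀h (inv_ne_zero ha) hbad
      obtain ⟨y', hx', -, hxc', hcv'⟩ :=
        exists_secPoint (m + 1) i hM H₀ hwb.1 (inv_mul_cancel₀ ha : (v a)⁻¹ * v a = 1) hwb.2.1
      obtain rfl := (hns y').1 fun h => (smoothAt_iff m i hM H₀ a
        (hsm a (ne_zero_of_zero hF hbad.1 ha)) y' hx' hxc' hcv').1 h hwb
      funext q
      have h := point_change i hj hx' hv0 hcv' q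
      rw [mul_assoc] at h
      exact mul_left_cancel₀ (inv_ne_zero ha) h
    · rw [fR_eq, form1_coords]
      exact hnd _ (by rw [sum_spread, ht0])
  obtain ⟨Φ, hΦ0, hΦ⟩ := exists_separating hF hW hb hiff
  refine ⟨fun H => eval (coords H) Φ, isPolyFun_eval Φ, hΦ0, fun H hnt hf => ?_⟩
  have hsep := hΦ (coords H) hf
  rw [form1_coords] at hsep
  have hHh := (mem_homogeneousSubmodule d _).1 H.2
  obtain ⟨v, hv, hbad⟩ := bad_of_not_transversal i m hM H hnt
  have hvj := (hsep v hv hbad).1
  let w : Fin (r + 1) → k := fun q => (v j)⁻¹ * v q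
  have hwj : w j = 1 := inv_mul_cancel₀ hvj
  have hwb : BadAt F w H.1 := badAt_smul hF hHh (inv_ne_zero hvj) hbad
  obtain ⟨⟨t, hct, hnd'⟩, huniq⟩ := (hsep w (hne1 hwj) hwb).2 hwj
  obtain ⟨-, h0, hgr⟩ := crit_iff.1 hct
  rw [form1_coords] at h0 hgr
  rw [fR_eq, form1_coords] at hnd'
  refine oneOrdQuad_of_point i m hM H hwj hwb (fun hvan => ?_)
    (nondeg_of_one hF hM.reg hwb.1 hwj (hWr w hwb.1 (hne1 hwj)) h0 (by rw [sum_spread, hgr]) hnd')
    fun u hu hub => ⟨(hsep u hu hub).1, fun huj => huniq u huj hub⟩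
  have hξ := ne_zero_of_zero hF hwb.1 (j := j) (by rw [hwj]; exact one_ne_zero)
  exact false_of_unique_point hF (Nat.succ_ne_zero m) (hM.dim j hξ) hξ
    fun u hu huj => huniq u huj (badAt_of_vanish hF hHh hvan hu)

end main

end OrdQuad
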