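import Groth.Agent.CohenLib.FSRegular
import Groth.Agent.CohenLib.PSHom
import Mathlib

/-!
# Quadratic parts of power series
-/

set_option autoImplicit false
set_option linter.unusedSectionVars false
set_option linter.style.haveILetI false

universe u

open CohenLib MvPolynomial

namespace OrdQuad

variable {k : Type u} [Field k] {n : ℕ}

theorem coeff_eq_zero_of_mem_pow {N : ℕ} {f : MvPowerSeries (Fin n) k} (hf : f ∈ varsIdeal k n ^ N)
    {e : Fin n →₀ ℕ} (he : e.degree < N) : MvPowerSeries.coeff e f = 0 := by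
  refine MvPowerSeries.coeff_of_lt_order (lt_of_lt_of_le (b := (N : ℕ∞)) (by exact_mod_cast he) ?_)
  clear he e
  induction N generalizing f with
  | zero => simp
  | succ N ih =>
    rw [pow_succ] at hf
    induction hf using Submodule.mul_induction_on' with
    | mem_mul_mem a ha b hb =>
      refine le_trans ?_ MvPowerSeries.le_order_mul
      push_cast
      refine add_le_add (ih ha) ?_
      rw [MvPowerSeries.one_le_order_iff_constCoeff_eq_zero]
      rw [varsIdeal] at hb
      refine (Ideal.span_le.2 ?_ : _ ≤ RingHom.ker MvPowerSeries.constantCoeff) hb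
      rintro _ ⟨i, rfl⟩
      simp
    | add a _ b _ ha hb => exact le_trans (le_min ha hb) MvPowerSeries.min_order_le_add

theorem coe_mem_pow {N : ℕ} {q : MvPolynomial (Fin n) k} (hq : q ∈ MvPolynomial.idealOfVars (Fin n) k ^ N) :
    algebraMap (MvPolynomial (Fin n) k) (MvPowerSeries (Fin n) k) q ∈ varsIdeal k n ^ N := by
  have h := Ideal.mem_map_of_mem (algebraMap (MvPolynomial (Fin n) k) (MvPowerSeries (Fin n) k)) hq
  rw [Ideal.map_pow, MvPolynomial.idealOfVars, Ideal.map_span, ← Set.range_comp] at h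
  have hX : (algebraMap (MvPolynomial (Fin n) k) (MvPowerSeries (Fin n) k) ∘ MvPolynomial.X) = MvPowerSeries.X := by
    funext i; simp [MvPowerSeries.algebraMap_apply']
  rwa [hX] at h

theorem coeff_algebraMap (q : MvPolynomial (Fin n) k) (e : Fin n →₀ ℕ) :
    MvPowerSeries.coeff e (algebraMap (MvPolynomial (Fin n) k) (MvPowerSeries (Fin n) k) q) = q.coeff e := by
  simp [MvPowerSeries.algebraMap_apply', MvPolynomial.coeff_coe]

theorem mem_pow_of_coeff {N : ℕ} {f : MvPowerSeries (Fin n) k}
    (hf : ∀ e : Fin n →₀ ℕ, e.degree < N → MvPowerSeries.coeff e f = 0) : f ∈ varsIdeal k n ^ N := by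
  obtain ⟨q, hq⟩ := exists_polynomial_sub_mem N f
  have hq0 : q ∈ MvPolynomial.idealOfVars (Fin n) k ^ N := by
    rw [MvPolynomial.mem_pow_idealOfVars_iff']
    intro e he
    have := coeff_eq_zero_of_mem_pow hq he
    rw [map_sub, hf e he, coeff_algebraMap, zero_sub, neg_eq_zero] at this
    exact this
  have := add_mem hq (coe_mem_pow hq0)
  rwa [sub_add_cancel] at this

/-- The degree two part of a power series. -/
noncomputable def part2 (f : MvPowerSeries (Fin n) k) : MvPolynomial (Fin n) k :=
  ∑ e ∈ (Finsupp.finite_of_degree_eq (σ := Fin n) 2).toFinset, monomial e (MvPowerSeries.coeff e f)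

theorem coeff_part2 (f : MvPowerSeries (Fin n) k) (e : Fin n →₀ ℕ) :
    (part2 f).coeff e = if e.degree = 2 then MvPowerSeries.coeff e f else 0 := by
  classical
  simp only [part2, coeff_sum, coeff_monomial]
  rw [Finset.sum_ite_eq']
  simp

theorem part2_eq_iff {f : MvPowerSeries (Fin n) k} {P : MvPolynomial (Fin n) k} (hP : P.IsHomogeneous 2) :
    part2 f = P ↔ ∀ e : Fin n →₀ ℕ, e.degree = 2 → P.coeff e = MvPowerSeries.coeff e f := by
  refine ⟨fun h e he => by rw [← h, coeff_part2, if_pos he], fun h => MvPolynomial.ext _ _ fun e => ?_⟩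
  rw [coeff_part2]
  split_ifs with he
  · exact (h e he).symm
  · exact (hP.coeff_eq_zero he).symm

theorem isHomogeneous_part2 (f : MvPowerSeries (Fin n) k) : (part2 f).IsHomogeneous 2 := by
  refine IsHomogeneous.sum _ _ _ fun e he => isHomogeneous_monomial _ ?_
  simpa using he

theorem part2_congr {f g : MvPowerSeries (Fin n) k} (h : f - g ∈ varsIdeal k n ^ 3) : part2 f = part2 g := by
  refine MvPolynomial.ext _ _ fun e => ?_
  rw [coeff_part2, coeff_part2]
  split_ifs with he
  · have := coeff_eq_zero_of_mem_pow h (e := e) (by omega)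
    rwa [map_sub, sub_eq_zero] at this
  · rfl

theorem sub_part2_mem {f : MvPowerSeries (Fin n) k} (hf : f ∈ varsIdeal k n ^ 2) :
    f - algebraMap (MvPolynomial (Fin n) k) (MvPowerSeries (Fin n) k) (part2 f) ∈ varsIdeal k n ^ 3 := by
  refine mem_pow_of_coeff fun e he => ?_
  rw [map_sub, coeff_algebraMap, coeff_part2]
  split_ifs with h2
  · exact sub_self _
  · rw [coeff_eq_zero_of_mem_pow hf (by omega), sub_zero]

theorem part2_algebraMap {P : MvPolynomial (Fin n) k} (hP : P.IsHomogeneous 2) :
    part2 (algebraMap (MvPolynomial (Fin n) k) (MvPowerSeries (Fin n) k) P) = P :=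
  (part2_eq_iff hP).2 fun e _ => (coeff_algebraMap P e).symm

theorem part2_C_mul (c : k) {f : MvPowerSeries (Fin n) k} : part2 (MvPowerSeries.C c * f) = C c * part2 f := by
  refine MvPolynomial.ext _ _ fun e => ?_
  rw [coeff_part2, coeff_C_mul, coeff_part2, MvPowerSeries.coeff_C_mul, mul_ite, mul_zero]

theorem part2_mul {f : MvPowerSeries (Fin n) k} (c : MvPowerSeries (Fin n) k) (hf : f ∈ varsIdeal k n ^ 2) :
    part2 (c * f) = C (MvPowerSeries.constantCoeff c) * part2 f := by
  rw [← part2_C_mul]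
  refine part2_congr ?_
  rw [← sub_mul, pow_succ']
  refine Ideal.mul_mem_mul ?_ hf
  rw [← pow_one (varsIdeal k n)]
  refine mem_pow_of_coeff fun e he => ?_
  obtain rfl : e = 0 := (Finsupp.degree_eq_zero_iff e).1 (by omega)
  rw [map_sub, MvPowerSeries.coeff_zero_eq_constantCoeff_apply, MvPowerSeries.coeff_zero_eq_constantCoeff_apply,
    MvPowerSeries.constantCoeff_C, sub_self]

/-- Degree two parts transform by the linear parts of a substitution. -/
theorem part2_psHom (ψ : MvPowerSeries (Fin n) k →+* MvPowerSeries (Fin n) k)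
    (hC : ∀ c, ψ (MvPowerSeries.C c) = MvPowerSeries.C c) (l : Fin n → MvPolynomial (Fin n) k)
    (hl : ∀ a, (l a).IsHomogeneous 1)
    (hX : ∀ a, ψ (MvPowerSeries.X a) - algebraMap _ _ (l a) ∈ varsIdeal k n ^ 2)
    {f : MvPowerSeries (Fin n) k} (hf : f ∈ varsIdeal k n ^ 2) :
    ψ f ∈ varsIdeal k n ^ 2 ∧ part2 (ψ f) = aeval l (part2 f) := by
  classical
  have hl1 : ∀ a, algebraMap _ (MvPowerSeries (Fin n) k) (l a) ∈ varsIdeal k n := fun a => by
    rw [← pow_one (varsIdeal k n)]
    refine coe_mem_pow ((MvPolynomial.mem_pow_idealOfVars_iff' _ _).2 fun e he => (hl a).coeff_eq_zero ?_)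
    omega
  have hψX : ∀ a, ψ (MvPowerSeries.X a) ∈ varsIdeal k n := fun a => by
    have := add_mem (Ideal.pow_le_self two_ne_zero (hX a)) (hl1 a)
    rwa [sub_add_cancel] at this
  have hψ : ∀ N, ∀ g ∈ varsIdeal k n ^ N, ψ g ∈ varsIdeal k n ^ N := fun N g hg => by
    have h1 : (varsIdeal k n).map ψ ≤ varsIdeal k n := by
      rw [varsIdeal, Ideal.map_span, Ideal.span_le]
      rintro _ ⟨_, ⟨a, rfl⟩, rfl⟩
      exact hψX a
    exact Ideal.pow_right_mono h1 N (Ideal.map_pow ψ _ N ▸ Ideal.mem_map_of_mem ψ hg)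
  refine ⟨hψ 2 f hf, ?_⟩
  have hhom : (aeval l (part2 f)).IsHomogeneous 2 := by
    simpa using (isHomogeneous_part2 f).aeval _ hl
  rw [← part2_algebraMap hhom]
  refine part2_congr ?_
  let A : MvPolynomial (Fin n) k →+* MvPowerSeries (Fin n) k := ψ.comp (algebraMap _ _)
  let B : MvPolynomial (Fin n) k →+* MvPowerSeries (Fin n) k := (algebraMap _ _).comp (aeval l).toRingHom
  have hsub : ∀ p, A p - B p ∈ varsIdeal k n ^ 2 := fun p => by
    have hAB : (Ideal.Quotient.mk (varsIdeal k n ^ 2)).comp A = (Ideal.Quotient.mk _).comp B :=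
      MvPolynomial.ringHom_ext (fun c => by simp [A, B, MvPowerSeries.algebraMap_apply', hC])
        (fun a => by
          refine Ideal.Quotient.eq.2 ?_
          simpa [A, B, MvPowerSeries.algebraMap_apply'] using hX a)
    exact Ideal.Quotient.eq.1 (RingHom.congr_fun hAB p)
  have key : ∀ p ∈ MvPolynomial.idealOfVars (Fin n) k ^ 2, A p - B p ∈ varsIdeal k n ^ 3 := by
    intro p hp
    rw [pow_two] at hp
    induction hp using Submodule.mul_induction_on' with
    | mem_mul_mem a ha b hb =>
      have hAa : A a ∈ varsIdeal k n := by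
        have := hψ 1 _ (coe_mem_pow (N := 1) (q := a) (by rwa [pow_one]))
        rwa [pow_one] at this
      have hBb : B b ∈ varsIdeal k n := by
        have hle : (MvPolynomial.idealOfVars (Fin n) k).map B ≤ varsIdeal k n := by
          rw [MvPolynomial.idealOfVars, Ideal.map_span, Ideal.span_le]
          rintro _ ⟨_, ⟨a, rfl⟩, rfl⟩
          simpa [B] using hl1 a
        exact hle (Ideal.mem_map_of_mem B hb)
      rw [map_mul, map_mul, show A a * A b - B a * B b = A a * (A b - B b) + (A a - B a) * B b by ring]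
      refine add_mem ?_ ?_
      · rw [pow_succ']; exact Ideal.mul_mem_mul hAa (hsub b)
      · rw [pow_succ]; exact Ideal.mul_mem_mul (hsub a) hBb
    | add a _ b _ ha hb => rw [map_add, map_add, add_sub_add_comm]; exact add_mem ha hb
  have h1 : ψ (f - algebraMap _ _ (part2 f)) ∈ varsIdeal k n ^ 3 := hψ 3 _ (sub_part2_mem hf)
  have h2 := key (part2 f) ((MvPolynomial.mem_pow_idealOfVars_iff' _ _).2 fun e he =>
    (isHomogeneous_part2 f).coeff_eq_zero (by omega))
  rw [map_sub] at h1
  have := add_mem h1 h2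
  simp only [A, B, RingHom.comp_apply, sub_add_sub_cancel] at this
  exact this

end OrdQuad
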