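import Groth.Agent.OrdQuadLib.Quot
import Groth.Agent.CIGenLib.ConeBasic
import Mathlib

/-!
# Formal parameters of a smooth variety at a rational point
-/

set_option autoImplicit false
set_option linter.unusedSectionVars false
set_option linter.style.haveILetI false

universe u

open IsLocalRing CohenLib MvPolynomial CIGen

namespace OrdQuad

variable {k : Type u} [Field k] {r N : ℕ}

/-- Tangent vectors in a chart. -/
def TanV (F : Fin N → MvPolynomial (Fin (r + 1)) k) (j : Fin (r + 1)) (v w : Fin (r + 1) → k) : Prop :=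
  w j = 0 ∧ ∀ l, ∑ i, w i * grad v (F l) i = 0

/-- The quadratic part on the tangent space is degenerate. -/
def DegW (F : Fin N → MvPolynomial (Fin (r + 1)) k) (j : Fin (r + 1)) (v : Fin (r + 1) → k)
    (f : MvPolynomial (Fin (r + 1)) k) : Prop :=
  ∃ w, w ≠ 0 ∧ TanV F j v w ∧ quad v w f = 0 ∧ ∀ u, TanV F j v u → ∑ i, u i * hess v w f i = 0

/-- A tangency point with nondegenerate quadratic part. -/
def Nondeg (F : Fin N → MvPolynomial (Fin (r + 1)) k) (j : Fin (r + 1)) (v : Fin (r + 1) → k)
    (G : MvPolynomial (Fin (r + 1)) k) : Prop :=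
  ∀ t : Fin N → k, grad v G = ∑ l, t l • grad v (F l) → ¬ DegW F j v (G - ∑ l, C (t l) * F l)

/-- Formal parameters at a point. -/
structure IsParam {n : ℕ} {K : Type u} [Field K] [Algebra k K] (ξ : Fin (r + 1) → K)
    (F : Fin N → MvPolynomial (Fin (r + 1)) k) (j : Fin (r + 1)) (v : Fin (r + 1) → k)
    (φ : MvPolynomial (Fin (r + 1)) k →ₐ[k] MvPowerSeries (Fin n) k) (L : Fin (r + 1) → Fin n → k) : Prop where
  congr : ∀ q, φ (X q) - algebraMap (MvPolynomial (Fin n) k) _ (affSub v L (X q)) ∈ varsIdeal k n ^ 2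
  kill : ∀ p ∈ chartIdeal (k := k) ξ j, φ p = 0
  inj : ∀ w, lin L w = 0 → w = 0
  range : ∀ u, TanV F j v u ↔ ∃ w, lin L w = u

theorem grad_linAt (v c : Fin (r + 1) → k) : grad v (linAt v c) = c := funext fun i => by
  simp [grad, linAt, Fintype.linearCombination_apply, pderiv_X, Pi.single_apply, smul_eq_C_mul, apply_ite (eval v), eq_comm]

variable [IsAlgClosed k] {K : Type u} [Field K] [Algebra k K] {ξ : Fin (r + 1) → K}
  {F : Fin N → MvPolynomial (Fin (r + 1)) k} {e : Fin N → ℕ}

theorem degW_iff {n : ℕ} {j : Fin (r + 1)} {v : Fin (r + 1) → k}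
    {φ : MvPolynomial (Fin (r + 1)) k →ₐ[k] MvPowerSeries (Fin n) k} {L : Fin (r + 1) → Fin n → k}
    (h : IsParam ξ F j v φ L) (f : MvPolynomial (Fin (r + 1)) k) :
    DegW F j v f ↔ ∃ w : Fin n → k, w ≠ 0 ∧ eval w (qform v L f) = 0 ∧ ∀ a, eval w (pderiv a (qform v L f)) = 0 := by
  classical
  constructor
  · rintro ⟨u, hu, htan, hq, hh⟩
    obtain ⟨w, rfl⟩ := (h.range u).1 htan
    refine ⟨w, fun h0 => hu (by rw [h0]; funext i; simp [lin]), by rw [eval_qform]; exact hq, fun a => ?_⟩
    rw [eval_pderiv_qform]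
    have := hh (lin L (Pi.single a 1)) ((h.range _).2 ⟨_, rfl⟩)
    simpa [lin, Pi.single_apply] using this
  · rintro ⟨w, hw, hq, hd⟩
    refine ⟨lin L w, fun h0 => hw (h.inj w h0), (h.range _).2 ⟨w, rfl⟩, by rw [← eval_qform]; exact hq, fun u hu => ?_⟩
    obtain ⟨x, rfl⟩ := (h.range u).1 hu
    simp only [lin, Finset.sum_mul]
    rw [Finset.sum_comm]
    refine Finset.sum_eq_zero fun a _ => ?_
    rw [show ∑ i, L i a * x a * hess v (lin L w) f i = x a * ∑ i, L i a * hess v (lin L w) f i by
      rw [Finset.mul_sum]; exact Finset.sum_congr rfl fun i _ => by ring, ← eval_pderiv_qform, hd a, mul_zero]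

set_option maxHeartbeats 1000000 in
/-- Formal parameters exist at a point of a smooth chart. -/
theorem exists_param (hF : IsEqn ξ F e) {n : ℕ} {j : Fin (r + 1)} {v : Fin (r + 1) → k} (hv : Zero F v) (hj : v j = 1)
    (hW : Module.finrank k (Submodule.span k (Set.range fun l => grad v (F l))) + n = r)
    {A R : Type u} [CommRing A] [CommRing R] [IsRegularLocalRing R] [Algebra A R]
    (β : MvPolynomial (Fin (r + 1)) k →+* A) (hβ : Function.Surjective β) (hker : RingHom.ker β = chartIdeal ξ j)
    (m : Ideal A) [m.IsMaximal] (hm : m.comap β = RingHom.ker (eval v)) [IsLocalization.AtPrime R m]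
    [Algebra k R] (hc : ∀ c, algebraMap k R c = algebraMap A R (β (C c))) :
    ∃ (φ : MvPolynomial (Fin (r + 1)) k →ₐ[k] MvPowerSeries (Fin n) k) (L : Fin (r + 1) → Fin n → k)
      (ec : AdicCompletion (maximalIdeal R) R ≃+* MvPowerSeries (Fin n) k), IsParam ξ F j v φ L ∧
      (∀ c, ec (algebraMap R _ (algebraMap k R c)) = MvPowerSeries.C c) ∧
      ∀ p, φ p = ec (algebraMap R _ (algebraMap A R (β p))) := by
  classical
  let M : Ideal (MvPolynomial (Fin (r + 1)) k) := RingHom.ker (eval v)
  have hmem : ∀ p, algebraMap A R (β p) ∈ maximalIdeal R ↔ p ∈ M := fun p => by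
    rw [IsLocalization.AtPrime.to_map_mem_maximal_iff R m, ← Ideal.mem_comap, hm]
  -- the residue field
  have hres : ∀ a : R, ∃ c : k, a - algebraMap k R c ∈ maximalIdeal R := by
    intro a
    obtain ⟨⟨x, s⟩, hxs⟩ := IsLocalization.surj m.primeCompl a
    obtain ⟨p, rfl⟩ := hβ x
    obtain ⟨q, hq⟩ := hβ s.1
    have hq0 : eval v q ≠ 0 := fun h0 => s.2 (by
      rw [← hq]
      exact (Ideal.mem_comap.1 (hm ▸ h0 : q ∈ m.comap β)))
    refine ⟨eval v p / eval v q, ?_⟩
    have hu : IsUnit (algebraMap A R s.1) := IsLocalization.map_units R s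
    rw [← Ideal.mul_unit_mem_iff_mem _ hu, sub_mul]
    have hxs' : a * algebraMap A R s.1 = algebraMap A R (β p) := hxs
    rw [hxs', hc, ← hq, ← map_mul, ← map_sub, ← map_mul, ← map_sub, hmem]
    show eval v _ = 0
    rw [map_sub, map_mul, eval_C, div_mul_cancel₀ _ hq0, sub_self]
  have hbij : Function.Bijective (algebraMap k (ResidueField R)) := by
    refine ⟨(algebraMap k (ResidueField R)).injective, fun x => ?_⟩
    obtain ⟨a, rfl⟩ := IsLocalRing.residue_surjective x
    obtain ⟨c, hc'⟩ := hres a
    refine ⟨c, ?_⟩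
    rw [IsScalarTower.algebraMap_apply k R (ResidueField R)]
    exact (Ideal.Quotient.eq.2 hc').symm
  haveI : Algebra.FormallySmooth k (ResidueField R) :=
    Algebra.FormallySmooth.of_equiv (AlgEquiv.ofBijective (Algebra.ofId k (ResidueField R)) hbij)
  obtain ⟨d, e0, he0⟩ := CohenLib.exists_equiv_of_liftsAdic (CohenLib.liftsAdic_of_regular k R)
  let rk : k ≃+* ResidueField R := RingEquiv.ofBijective _ hbij
  let em : MvPowerSeries (Fin d) (ResidueField R) ≃+* MvPowerSeries (Fin d) k :=
    RingEquiv.ofRingHom (MvPowerSeries.map rk.symm.toRingHom) (MvPowerSeries.map rk.toRingHom)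
      (by rw [← MvPowerSeries.map_comp, show rk.symm.toRingHom.comp rk.toRingHom = RingHom.id k from
        RingHom.ext fun x => rk.symm_apply_apply x, MvPowerSeries.map_id])
      (by rw [← MvPowerSeries.map_comp, show rk.toRingHom.comp rk.symm.toRingHom = RingHom.id _ from
        RingHom.ext fun x => rk.apply_symm_apply x, MvPowerSeries.map_id])
  let ec : AdicCompletion (maximalIdeal R) R ≃+* MvPowerSeries (Fin d) k := e0.trans em
  have hec : ∀ c, ec (algebraMap R _ (algebraMap k R c)) = MvPowerSeries.C c := fun c => by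
    show em (e0 _) = _
    rw [he0]
    show MvPowerSeries.map rk.symm.toRingHom _ = _
    rw [MvPowerSeries.map_C]
    exact congrArg _ (rk.symm_apply_apply c)
  let φR : MvPolynomial (Fin (r + 1)) k →+* MvPowerSeries (Fin d) k :=
    (ec : _ →+* MvPowerSeries (Fin d) k).comp ((algebraMap R (AdicCompletion (maximalIdeal R) R)).comp ((algebraMap A R).comp β))
  let φ : MvPolynomial (Fin (r + 1)) k →ₐ[k] MvPowerSeries (Fin d) k :=
    { φR with
      commutes' := fun c => by
          show ec (algebraMap R _ (algebraMap A R (β (C c)))) = _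
          rw [← hc, hec, MvPowerSeries.algebraMap_apply]
          simp }
  set 𝔫 := varsIdeal k d
  have hmapM : M.map φ.toRingHom = 𝔫 := by
    have h1 : M.map ((algebraMap A R).comp β) = maximalIdeal R := by
      rw [← Ideal.map_map, show M = m.comap β from hm.symm, Ideal.map_comap_of_surjective β hβ,
        IsLocalization.AtPrime.map_eq_maximalIdeal m R]
    show _ = varsIdeal k d
    rw [← map_maximal_eq ec]
    refine Eq.trans ?_ (congrArg (Ideal.map _) h1)
    rw [Ideal.map_map]
    rfl
  have hM2 : ∀ p ∈ M ^ 2, φ p ∈ 𝔫 ^ 2 := fun p hp => by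
    rw [← hmapM, ← Ideal.map_pow]; exact Ideal.mem_map_of_mem φ.toRingHom hp
  have hkill : ∀ p ∈ chartIdeal (k := k) ξ j, φ p = 0 := fun p hp => by
    show ec (algebraMap R _ (algebraMap A R (β p))) = 0
    rw [RingHom.mem_ker.1 (hker.symm ▸ hp : p ∈ RingHom.ker β)]
    simp
  let L : Fin (r + 1) → Fin d → k := fun q a => MvPowerSeries.coeff (Finsupp.single a 1) (φ (X q))
  have hnn : ∀ p ∈ M, φ p ∈ 𝔫 := fun p hp => hmapM ▸ Ideal.mem_map_of_mem φ.toRingHom hp
  have hC : ∀ c, φ (C c) = MvPowerSeries.C c := fun c => by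
    rw [← MvPolynomial.algebraMap_eq, φ.commutes, MvPowerSeries.algebraMap_apply]; simp
  have hcoef : ∀ p a, MvPowerSeries.coeff (Finsupp.single a 1) (φ p) = ∑ q, grad v p q * L q a := by
    intro p a
    have ht := taylor v p
    rw [← ker_eval] at ht
    have h1 := coeff_eq_zero_of_mem_pow (hM2 _ ht) (e := Finsupp.single a 1) (by simp)
    rw [map_sub, map_sub, map_sub, map_sub, hC, sub_eq_zero] at h1
    rw [MvPowerSeries.coeff_C, if_neg (by simp), sub_zero] at h1
    rw [h1, linAt, Fintype.linearCombination_apply, map_sum, map_sum]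
    refine Finset.sum_congr rfl fun q _ => ?_
    rw [smul_eq_C_mul, map_mul, hC, MvPowerSeries.coeff_C_mul, map_sub, map_sub, hC, MvPowerSeries.coeff_C,
      if_neg (by simp), sub_zero]
    rfl
  have hcongr : ∀ q, φ (X q) - algebraMap (MvPolynomial (Fin d) k) _ (affSub v L (X q)) ∈ 𝔫 ^ 2 := by
    intro q
    refine mem_pow_of_coeff fun s hs => ?_
    have hsub : affSub v L (X q) = C (v q) + ∑ a, C (L q a) * X a := aeval_X ..
    rw [map_sub, coeff_algebraMap, hsub]
    rcases Nat.eq_zero_or_pos s.degree with h0 | h0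
    · obtain rfl := (Finsupp.degree_eq_zero_iff s).1 h0
      have h1 := coeff_eq_zero_of_mem_pow (N := 1) (e := (0 : Fin d →₀ ℕ)) (f := φ (X q - C (v q)))
        (by rw [pow_one]; exact hnn _ (by simp [M, RingHom.mem_ker])) (by simp)
      rw [map_sub, hC, map_sub] at h1
      simpa [coeff_sum, eq_comm (a := (0 : Fin d →₀ ℕ))] using h1
    · obtain ⟨b, hb⟩ : s.support.Nonempty := by
        rw [Finsupp.support_nonempty_iff]; rintro rfl; simp at h0
      obtain ⟨t, ht⟩ := le_iff_exists_add.1 (Finsupp.single_le_iff.2 (Nat.one_le_iff_ne_zero.2 (Finsupp.mem_support_iff.1 hb)))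
      have hd := congrArg Finsupp.degree ht
      rw [map_add, Finsupp.degree_single] at hd
      obtain rfl : s = Finsupp.single b 1 := by rw [ht, (Finsupp.degree_eq_zero_iff t).1 (by omega), add_zero]
      simp [coeff_sum, coeff_X, coeff_C, L, Finsupp.single_left_inj, eq_comm (a := (0 : Fin d →₀ ℕ))]
  -- injectivity
  have hinj : ∀ w, lin L w = 0 → w = 0 := by
    intro w hw
    let D : Ideal (MvPowerSeries (Fin d) k) :=
      { carrier := {f | MvPowerSeries.constantCoeff f = 0 ∧ ∑ a, w a * MvPowerSeries.coeff (Finsupp.single a 1) f = 0}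
        add_mem' := fun {f g} hf hg => ⟨by rw [map_add, hf.1, hg.1, add_zero], by
          simp [mul_add, Finset.sum_add_distrib, hf.2, hg.2]⟩
        zero_mem' := ⟨by simp, by simp⟩
        smul_mem' := fun g f hf => ⟨by simp [hf.1], by
          have hh : ∀ a, MvPowerSeries.coeff (Finsupp.single a 1) (g * f) =
              MvPowerSeries.constantCoeff g * MvPowerSeries.coeff (Finsupp.single a 1) f := fun a => by
            have h1 : g * f - MvPowerSeries.C (MvPowerSeries.constantCoeff g) * f ∈ 𝔫 ^ 2 := by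
              rw [← sub_mul, pow_two]
              refine Ideal.mul_mem_mul ?_ ?_ <;>
              · show _ ∈ varsIdeal k d
                rw [← ker_constantCoeff, RingHom.mem_ker]
                simp [hf.1]
            have h2 := coeff_eq_zero_of_mem_pow h1 (e := Finsupp.single a 1) (by simp)
            rw [map_sub, sub_eq_zero, MvPowerSeries.coeff_C_mul] at h2
            exact h2
          simp only [smul_eq_mul, hh]
          rw [← mul_zero (MvPowerSeries.constantCoeff g), ← hf.2, Finset.mul_sum]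
          exact Finset.sum_congr rfl fun a _ => by ring⟩ }
    have hle : 𝔫 ≤ D := by
      rw [← hmapM, Ideal.map_le_iff_le_comap]
      intro p hp
      refine ⟨?_, ?_⟩
      · have := hnn p hp
        rwa [show 𝔫 = varsIdeal k d from rfl, ← ker_constantCoeff, RingHom.mem_ker] at this
      · show ∑ a, w a * MvPowerSeries.coeff (Finsupp.single a 1) (φ p) = 0
        simp only [hcoef, Finset.mul_sum]
        rw [Finset.sum_comm]
        refine Finset.sum_eq_zero fun q _ => ?_
        have hq : ∑ a, L q a * w a = 0 := congrFun hw q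
        rw [← mul_zero (grad v p q), ← hq, Finset.mul_sum]
        exact Finset.sum_congr rfl fun a _ => by ring
    funext a
    have := (hle (show MvPowerSeries.X a ∈ 𝔫 from Ideal.subset_span ⟨a, rfl⟩)).2
    simpa [MvPowerSeries.coeff_X, Finsupp.single_left_inj] using this
  -- covectors killing the image
  have hperp : ∀ c : Fin (r + 1) → k, (∀ a, ∑ q, c q * L q a = 0) →
      c ∈ Submodule.span k (Set.range fun l => grad v (F l)) ⊔ Submodule.span k {Pi.single j 1} := by
    intro c hcL
    have h1 : φ (linAt v c) ∈ 𝔫 ^ 2 := by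
      refine mem_pow_of_coeff fun s hs => ?_
      rcases Nat.eq_zero_or_pos s.degree with h0 | h0
      · obtain rfl := (Finsupp.degree_eq_zero_iff s).1 h0
        exact coeff_eq_zero_of_mem_pow (N := 1) (by rw [pow_one]; exact hnn _ (by
          rw [show M = RingHom.ker (eval v) from rfl, ker_eval]; exact linAt_mem v c)) (by simp)
      · obtain ⟨b, hb⟩ : s.support.Nonempty := by
          rw [Finsupp.support_nonempty_iff]; rintro rfl; simp at h0
        obtain ⟨t, ht⟩ := le_iff_exists_add.1 (Finsupp.single_le_iff.2 (Nat.one_le_iff_ne_zero.2 (Finsupp.mem_support_iff.1 hb)))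
        have hd := congrArg Finsupp.degree ht
        rw [map_add, Finsupp.degree_single] at hd
        obtain rfl : s = Finsupp.single b 1 := by rw [ht, (Finsupp.degree_eq_zero_iff t).1 (by omega), add_zero]
        rw [hcoef, grad_linAt]
        exact hcL b
    have h2 : algebraMap R (AdicCompletion (maximalIdeal R) R) (algebraMap A R (β (linAt v c))) ∈
        (maximalIdeal R ^ 2).map (algebraMap R _) := by
      have h3 : ec (algebraMap R _ (algebraMap A R (β (linAt v c)))) ∈
          ((maximalIdeal R ^ 2).map (algebraMap R (AdicCompletion (maximalIdeal R) R))).map (ec : _ →+* MvPowerSeries (Fin d) k) := by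
        rw [Ideal.map_map, Ideal.map_pow, map_maximal_eq ec]; exact h1
      obtain ⟨x, hx, hxe⟩ := (Ideal.mem_map_iff_of_surjective _ ec.surjective).1 h3
      rwa [← ec.injective hxe]
    rw [AdicRingLib.algebraMap_mem_map_pow_iff (IsNoetherian.noetherian _)] at h2
    have hprim : (m ^ 2).IsPrimary := Ideal.isPrimary_of_isMaximal_radical (by
      rw [Ideal.radical_pow m two_ne_zero, Ideal.IsPrime.radical inferInstance]; infer_instance)
    have h4 : linAt v c ∈ M ^ 2 ⊔ RingHom.ker β := by
      rw [← IsLocalization.AtPrime.map_eq_maximalIdeal m R, ← Ideal.map_pow, ← Ideal.mem_comap, ← Ideal.under_def,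
        IsLocalization.under_map_of_isPrimary_disjoint m.primeCompl R hprim
          (Set.disjoint_left.2 fun x hx hx2 => hx (Ideal.pow_le_self two_ne_zero hx2))] at h2
      have h5 : β (linAt v c) ∈ (M ^ 2).map β := by
        rwa [Ideal.map_pow, show M = m.comap β from hm.symm, Ideal.map_comap_of_surjective β hβ]
      rwa [← Ideal.mem_comap, Ideal.comap_map_of_surjective β hβ, ← RingHom.ker_eq_comap_bot] at h5
    obtain ⟨x, hx, y, hy, hxy⟩ := Submodule.mem_sup.1 h4
    rw [← grad_linAt v c, ← hxy, grad_add, grad_sq v hx, zero_add]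
    exact (chart_grad hF hv hj (hker ▸ hy)).2
  have hperp' : ∀ c ∈ Submodule.span k (Set.range fun l => grad v (F l)) ⊔ Submodule.span k {Pi.single j 1},
      ∀ a, ∑ q, c q * L q a = 0 := by
    intro c hcm a
    have hgr : ∀ p ∈ chartIdeal (k := k) ξ j, ∑ q, grad v p q * L q a = 0 := fun p hp => by
      rw [← hcoef, hkill p hp, map_zero]
    have hξ := ne_zero_of_zero hF hv (j := j) (by rw [hj]; exact one_ne_zero)
    let ψ : (Fin (r + 1) → k) →ₗ[k] k := ∑ q, L q a • LinearMap.proj q
    have hψ : ∀ c, ψ c = ∑ q, c q * L q a := fun c => by simp [ψ, mul_comm]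
    rw [← hψ]
    refine LinearMap.mem_ker.1 ((sup_le (Submodule.span_le.2 ?_) (Submodule.span_le.2 ?_) : _ ≤ LinearMap.ker ψ) hcm)
    · rintro _ ⟨l, rfl⟩
      rw [SetLike.mem_coe, LinearMap.mem_ker, hψ]
      exact hgr _ (mem_chartIdeal hF j l)
    · rintro _ rfl
      rw [SetLike.mem_coe, LinearMap.mem_ker, hψ, ← hgr _ (X_sub_one_mem ξ hξ)]
      simp [grad, pderiv_X, Pi.single_apply, apply_ite (eval v), eq_comm]
  -- the number of parameters
  obtain rfl : d = n := by
    let T : (Fin (r + 1) → k) →ₗ[k] (Fin d → k) :=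
      LinearMap.pi fun a => ∑ q, L q a • LinearMap.proj q
    have hT : ∀ c a, T c a = ∑ q, c q * L q a := fun c a => by simp [T, mul_comm]
    have hker : LinearMap.ker T = Submodule.span k (Set.range fun l => grad v (F l)) ⊔ Submodule.span k {Pi.single j 1} := by
      ext c
      rw [LinearMap.mem_ker]
      exact ⟨fun h => hperp c fun a => by rw [← hT, h]; rfl, fun h => funext fun a => by rw [hT]; exact hperp' c h a⟩
    have hsurj : LinearMap.range T = ⊤ := by
      by_contra hne
      obtain ⟨ψ, hψ0, hψ⟩ := Submodule.exists_le_ker_of_lt_top _ (lt_top_iff_ne_top.2 hne)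
      refine hψ0 (LinearMap.pi_ext' fun a => LinearMap.ext_ring ?_)
      have hz : (fun a => ψ (Pi.single a 1)) = 0 := hinj _ (funext fun q => by
        have h1 : ψ (T (Pi.single q 1)) = 0 := LinearMap.mem_ker.1 (hψ ⟨_, rfl⟩)
        rw [show T (Pi.single q 1) = ∑ a, L q a • (Pi.single a 1 : Fin d → k) by
          funext b; simp [hT, Pi.single_apply], map_sum] at h1
        simpa [lin] using h1)
      simpa using congrFun hz a
    have hj' : (Pi.single j 1 : Fin (r + 1) → k) ∉ Submodule.span k (Set.range fun l => grad v (F l)) := fun h => by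
      let φ : (Fin (r + 1) → k) →ₗ[k] k := ∑ q, v q • LinearMap.proj q
      have hW0 : Submodule.span k (Set.range fun l => grad v (F l)) ≤ LinearMap.ker φ := Submodule.span_le.2 (by
        rintro _ ⟨l, rfl⟩
        have := euler (hF.homog l) v
        rw [hv l, mul_zero] at this
        simpa [φ] using this)
      have := hW0 h
      simp [φ, Pi.single_apply, hj] at this
    have h1 := T.finrank_range_add_finrank_ker
    rw [hsurj, hker, finrank_top, Submodule.finrank_sup_span_singleton hj', Module.finrank_fin_fun, Module.finrank_fin_fun] at h1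
    omega
  refine ⟨φ, L, ec, ⟨hcongr, hkill, hinj, fun u => ⟨fun hu => ?_, ?_⟩⟩, hec, fun p => rfl⟩
  · let Lm : (Fin d → k) →ₗ[k] (Fin (r + 1) → k) := LinearMap.pi fun q => ∑ a, L q a • LinearMap.proj a
    have hLm : ∀ w, Lm w = lin L w := fun w => funext fun q => by simp [Lm, lin]
    by_contra hne
    obtain ⟨ψ, hψu, hψ⟩ := (LinearMap.range Lm).exists_le_ker_of_notMem (v := u) (by
      rintro ⟨w, hw⟩; exact hne ⟨w, (hLm w).symm.trans hw⟩)
    refine hψu ?_
    have hrep : ∀ x, ψ x = ∑ q, x q * ψ (Pi.single q 1) := fun x => by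
      conv_lhs => rw [pi_eq_sum_univ' x]
      simp [map_sum]
    have hc : (fun q => ψ (Pi.single q 1)) ∈
        Submodule.span k (Set.range fun l => grad v (F l)) ⊔ Submodule.span k {Pi.single j 1} := hperp _ fun a => by
      have h1 : ψ (Lm (Pi.single a 1)) = 0 := LinearMap.mem_ker.1 (hψ ⟨_, rfl⟩)
      rw [hrep] at h1
      rw [← h1]
      refine Finset.sum_congr rfl fun q _ => ?_
      rw [hLm, mul_comm, show lin L (Pi.single a 1) q = L q a by simp [lin, Pi.single_apply]]
    let η : (Fin (r + 1) → k) →ₗ[k] k := ∑ q, u q • LinearMap.proj q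
    have hη : ∀ c, η c = ∑ q, u q * c q := fun c => by simp [η]
    rw [hrep, ← hη]
    refine LinearMap.mem_ker.1 ((sup_le (Submodule.span_le.2 ?_) (Submodule.span_le.2 ?_) : _ ≤ LinearMap.ker η) hc)
    · rintro _ ⟨l, rfl⟩
      rw [SetLike.mem_coe, LinearMap.mem_ker, hη]
      exact hu.2 l
    · rintro _ rfl
      rw [SetLike.mem_coe, LinearMap.mem_ker, hη]
      simp [Pi.single_apply, hu.1]
  · rintro ⟨w, rfl⟩
    have key : ∀ c ∈ Submodule.span k (Set.range fun l => grad v (F l)) ⊔ Submodule.span k {Pi.single j 1},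
        ∑ q, lin L w q * c q = 0 := fun c hc => by
      simp only [lin, Finset.sum_mul]
      rw [Finset.sum_comm]
      refine Finset.sum_eq_zero fun a _ => ?_
      rw [← mul_zero (w a), ← hperp' c hc a, Finset.mul_sum]
      exact Finset.sum_congr rfl fun q _ => by ring
    refine ⟨?_, fun l => key _ (Submodule.mem_sup_left (Submodule.subset_span ⟨l, rfl⟩))⟩
    have := key _ (Submodule.mem_sup_right (Submodule.mem_span_singleton_self _))
    simpa [Pi.single_apply] using this

end OrdQuad
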