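import Groth.Agent.OrdQuadLib.Line
import Groth.Agent.AdicRingLib.Completion
import Mathlib

/-!
# Completions of hypersurface rings and the invariance of their quadratic parts
-/

set_option autoImplicit false
set_option linter.unusedSectionVars false
set_option linter.style.haveILetI false

universe u

open IsLocalRing CohenLib MvPolynomial

namespace OrdQuad

variable {k : Type u} [Field k] {n : ℕ}

local notation "PS" => MvPowerSeries (Fin n) k

theorem map_maximal_eq {R : Type u} [CommRing R] [IsLocalRing R] [IsNoetherianRing R]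
    (e : AdicCompletion (maximalIdeal R) R ≃+* MvPowerSeries (Fin n) k) :
    (maximalIdeal R).map ((e : _ →+* MvPowerSeries (Fin n) k).comp (algebraMap R (AdicCompletion (maximalIdeal R) R))) =
      varsIdeal k n := by
  haveI := AdicCompletion.isMaximal_map_of_le (maximalIdeal R) (maximalIdeal R) le_rfl (IsNoetherian.noetherian _)
  haveI := Ideal.map_isMaximal_of_equiv e (p := (maximalIdeal R).map (algebraMap R (AdicCompletion (maximalIdeal R) R)))
  rw [← Ideal.map_map, ← maximalIdeal_mvPowerSeries_field]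
  exact IsLocalRing.eq_maximalIdeal this

/-- The completion of a quotient by one element. -/
theorem completion_quot {R S : Type u} [CommRing R] [IsLocalRing R] [IsNoetherianRing R] [CommRing S] [IsLocalRing S]
    (π : R →+* S) (hπ : Function.Surjective π) (z : R) (hk : RingHom.ker π = Ideal.span {z})
    (e : AdicCompletion (maximalIdeal R) R ≃+* MvPowerSeries (Fin n) k) :
    ∃ ε : AdicCompletion (maximalIdeal S) S ≃+*
        (MvPowerSeries (Fin n) k ⧸ Ideal.span {e (algebraMap R _ z)}),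
      ∀ a, ε (algebraMap S _ (π a)) = Ideal.Quotient.mk _ (e (algebraMap R _ a)) := by
  haveI : IsNoetherianRing S := isNoetherianRing_of_surjective R S π hπ
  haveI := isNoetherianRing_mvPowerSeries (n := n) k
  haveI := isAdicComplete_varsIdeal (n := n) k
  set I : Ideal PS := Ideal.span {e (algebraMap R _ z)}
  let J : Ideal (PS ⧸ I) := (varsIdeal k n).map (algebraMap PS (PS ⧸ I))
  haveI hJ : IsAdicComplete J (PS ⧸ I) :=
    (IsAdicComplete.map_algebraMap_iff _ _).2 (CompleteLib.isAdicComplete_of_finite (M := PS ⧸ I))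
  let J' : Ideal (AdicCompletion (maximalIdeal S) S) :=
    (maximalIdeal S).map (algebraMap S (AdicCompletion (maximalIdeal S) S))
  haveI hJ' : IsAdicComplete J' (AdicCompletion (maximalIdeal S) S) :=
    AdicRingLib.isAdicComplete_map (IsNoetherian.noetherian _)
  let φ : R →+* PS := (e : _ →+* PS).comp (algebraMap R (AdicCompletion (maximalIdeal R) R))
  let θ₀ : R →+* PS ⧸ I := (Ideal.Quotient.mk I).comp φ
  have hθ : RingHom.ker π ≤ RingHom.ker θ₀ := by
    rw [hk, Ideal.span_singleton_le_iff_mem, RingHom.mem_ker]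
    exact Ideal.Quotient.eq_zero_iff_mem.2 (Ideal.mem_span_singleton_self _)
  let θ : S →+* PS ⧸ I := π.liftOfRightInverse _ (Function.rightInverse_surjInv hπ) ⟨θ₀, hθ⟩
  have hθπ : ∀ a, θ (π a) = θ₀ a := fun a => π.liftOfRightInverse_comp_apply _ _ _ a
  have hmS : maximalIdeal S = (maximalIdeal R).map π := (IsLocalRing.map_maximalIdeal_of_surjective π hπ).symm
  have hcont : (maximalIdeal S).map θ ≤ J := by
    rw [hmS, Ideal.map_map, show θ.comp π = θ₀ from RingHom.ext hθπ, ← Ideal.map_map, map_maximal_eq e]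
    exact le_rfl
  let ε₀ := CompleteLib.completionLift (maximalIdeal S) J θ hcont
  have hcont' : (maximalIdeal R).map ((algebraMap S (AdicCompletion (maximalIdeal S) S)).comp π) ≤ J' := by
    rw [← Ideal.map_map, ← hmS]
  let β := CompleteLib.completionLift (maximalIdeal R) J' _ hcont'
  have hβ : ∀ a, β (algebraMap R _ a) = algebraMap S _ (π a) := CompleteLib.completionLift_algebraMap _ _ _ _
  have hz : π z = 0 := by
    rw [← RingHom.mem_ker, hk]; exact Ideal.mem_span_singleton_self z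
  let γ : PS ⧸ I →+* AdicCompletion (maximalIdeal S) S := Ideal.Quotient.lift I (β.comp (e.symm : PS →+* _)) (by
    intro x hx
    obtain ⟨c, rfl⟩ := Ideal.mem_span_singleton'.1 hx
    simp [hβ, hz])
  have hε : ∀ a, ε₀ (algebraMap S _ (π a)) = θ₀ a := fun a =>
    (CompleteLib.completionLift_algebraMap _ _ _ _ _).trans (hθπ a)
  have h1 : ε₀.comp β = (Ideal.Quotient.mk I).comp (e : _ →+* PS) :=
    CompleteLib.completion_hom_ext (maximalIdeal R) J (IsNoetherian.noetherian _) _ _ (Ideal.map_le_iff_le_comap.2 fun a ha => by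
      show ε₀ (β (algebraMap R _ a)) ∈ J
      rw [hβ, hε]
      exact Ideal.mem_map_of_mem _ ((map_maximal_eq e) ▸ Ideal.mem_map_of_mem φ ha)) fun a => by
        show ε₀ (β (algebraMap R _ a)) = _
        rw [hβ, hε]; rfl
  have h2 : ε₀.comp γ = RingHom.id _ := Ideal.Quotient.ringHom_ext (RingHom.ext fun x => by
    show ε₀ (β (e.symm x)) = Ideal.Quotient.mk I x
    refine (RingHom.congr_fun h1 (e.symm x)).trans ?_
    simp)
  have h3 : γ.comp ε₀ = RingHom.id _ :=
    CompleteLib.completion_hom_ext (maximalIdeal S) J' (IsNoetherian.noetherian _) _ _ (Ideal.map_le_iff_le_comap.2 fun s hs => by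
      obtain ⟨a, rfl⟩ := hπ s
      show γ (ε₀ (algebraMap S _ (π a))) ∈ J'
      rw [hε]
      show β (e.symm (e (algebraMap R _ a))) ∈ J'
      rw [RingEquiv.symm_apply_apply, hβ]
      exact Ideal.mem_map_of_mem _ hs) fun s => by
        obtain ⟨a, rfl⟩ := hπ s
        show γ (ε₀ (algebraMap S _ (π a))) = _
        rw [hε]
        show β (e.symm (e (algebraMap R _ a))) = _
        rw [RingEquiv.symm_apply_apply, hβ]; rfl
  exact ⟨RingEquiv.ofRingHom ε₀ γ h2 h3, hε⟩

/-- A nondegenerate quadratic form. -/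
def NondegP (P : MvPolynomial (Fin n) k) : Prop :=
  P ≠ 0 ∧ ¬ ∃ w : Fin n → k, w ≠ 0 ∧ eval w P = 0 ∧ ∀ a, eval w (pderiv a P) = 0

theorem coeff_single_algebraMap (q : MvPolynomial (Fin n) k) (hq : q.IsHomogeneous 1)
    (h : algebraMap (MvPolynomial (Fin n) k) PS q ∈ varsIdeal k n ^ 2) : q = 0 := by
  refine MvPolynomial.ext _ _ fun e => ?_
  rw [coeff_zero]
  by_cases he : e.degree = 1
  · rw [← coeff_algebraMap]; exact coeff_eq_zero_of_mem_pow h (by omega)
  · exact hq.coeff_eq_zero he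

/-- A substitution lifting an isomorphism of hypersurface rings. -/
theorem exists_lift {z Q : MvPowerSeries (Fin n) k} (hz : z ∈ varsIdeal k n ^ 2) (hQ : Q ∈ varsIdeal k n ^ 2)
    (σ : (MvPowerSeries (Fin n) k ⧸ Ideal.span {z}) ≃+* (MvPowerSeries (Fin n) k ⧸ Ideal.span {Q}))
    (hσ : ∀ c, σ (Ideal.Quotient.mk _ (MvPowerSeries.C c)) = Ideal.Quotient.mk _ (MvPowerSeries.C c)) :
    ∃ (M : Fin n → Fin n → k) (c : k) (p : Fin n → PS),
      aeval (fun a => ∑ b, C (M a b) * X b) (part2 z) = C c * part2 Q ∧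
      (∀ a, σ (Ideal.Quotient.mk _ (MvPowerSeries.X a)) = Ideal.Quotient.mk _ (p a)) ∧
      ∀ a, p a - algebraMap (MvPolynomial (Fin n) k) PS (∑ b, C (M a b) * X b) ∈ varsIdeal k n ^ 2 := by
  classical
  haveI := isAdicComplete_varsIdeal (n := n) k
  choose p hp using fun a => Ideal.Quotient.mk_surjective (σ (Ideal.Quotient.mk _ (MvPowerSeries.X a)))
  have hQn : Ideal.span {Q} ≤ varsIdeal k n :=
    (Ideal.span_singleton_le_iff_mem _).2 (Ideal.pow_le_self two_ne_zero hQ)
  have hzn : Ideal.span {z} ≤ varsIdeal k n :=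
    (Ideal.span_singleton_le_iff_mem _).2 (Ideal.pow_le_self two_ne_zero hz)
  have hpn : ∀ a, p a ∈ varsIdeal k n := fun a => by
    rw [← maximalIdeal_mvPowerSeries_field]
    intro hu
    have h1 : IsUnit (σ (Ideal.Quotient.mk _ (MvPowerSeries.X a))) := hp a ▸ hu.map _
    obtain ⟨u, hu'⟩ := Ideal.Quotient.mk_surjective (σ (Ideal.Quotient.mk _ (MvPowerSeries.X a)))
    have h2 := (isUnit_map_iff σ _).1 h1
    obtain ⟨w, hw⟩ := h2.exists_right_inv
    obtain ⟨w, rfl⟩ := Ideal.Quotient.mk_surjective w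
    rw [← map_mul, ← map_one (Ideal.Quotient.mk _), Ideal.Quotient.eq] at hw
    have h3 := sub_mem (Ideal.mul_mem_right w _ (show MvPowerSeries.X a ∈ varsIdeal k n from Ideal.subset_span ⟨a, rfl⟩)) (hzn hw)
    rw [sub_sub_cancel, ← ker_constantCoeff, RingHom.mem_ker, map_one] at h3
    exact one_ne_zero h3
  let ψ := psHom (varsIdeal k n) MvPowerSeries.C p hpn
  let M : Fin n → Fin n → k := fun a b => MvPowerSeries.coeff (Finsupp.single b 1) (p a)
  let l : Fin n → MvPolynomial (Fin n) k := fun a => ∑ b, C (M a b) * X b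
  have hlh : ∀ a, (l a).IsHomogeneous 1 := fun a => IsHomogeneous.sum _ _ _ fun b _ => by
    simpa using (isHomogeneous_C _ (M a b)).mul (isHomogeneous_X k b)
  have hlp : ∀ a, p a - algebraMap _ PS (l a) ∈ varsIdeal k n ^ 2 := fun a => by
    refine mem_pow_of_coeff fun s hs => ?_
    rw [map_sub, coeff_algebraMap]
    rcases Nat.eq_zero_or_pos s.degree with h0 | h0
    · obtain rfl := (Finsupp.degree_eq_zero_iff s).1 h0
      rw [(hlh a).coeff_eq_zero (by simp), sub_zero]
      exact coeff_eq_zero_of_mem_pow (by rw [pow_one]; exact hpn a) (N := 1) (by simp)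
    · obtain ⟨b, rfl⟩ : ∃ b, s = Finsupp.single b 1 := by
        obtain ⟨b, hb⟩ : s.support.Nonempty := by
          rw [Finsupp.support_nonempty_iff]; rintro rfl; simp at h0
        obtain ⟨t, ht⟩ := le_iff_exists_add.1 (Finsupp.single_le_iff.2 (Nat.one_le_iff_ne_zero.2 (Finsupp.mem_support_iff.1 hb)))
        refine ⟨b, ?_⟩
        have hd := congrArg Finsupp.degree ht
        rw [map_add, Finsupp.degree_single] at hd
        rw [ht, (Finsupp.degree_eq_zero_iff t).1 (by omega), add_zero]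
      simp [l, coeff_sum, coeff_X, M, Finsupp.single_left_inj]
  have hψC : ∀ c, ψ (MvPowerSeries.C c) = MvPowerSeries.C c := psHom_C _ _ _ _
  have hψX : ∀ a, ψ (MvPowerSeries.X a) = p a := psHom_X _ _ _ _
  obtain ⟨-, hpart⟩ := part2_psHom ψ hψC l hlh (fun a => by rw [hψX]; exact hlp a) hz
  -- the substitution carries `z` to a multiple of `Q` up to order three
  let T : Ideal PS := Ideal.span {Q} ⊔ varsIdeal k n ^ 3
  let q : (PS ⧸ Ideal.span {Q}) →+* PS ⧸ T := Ideal.Quotient.factor le_sup_left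
  have hψn : ∀ f ∈ varsIdeal k n ^ 3, Ideal.Quotient.mk T (ψ f) = 0 := fun f hf => by
    refine Ideal.Quotient.eq_zero_iff_mem.2 (Ideal.mem_sup_right ?_)
    have h1 : (varsIdeal k n).map ψ ≤ varsIdeal k n := by
      show (Ideal.span _).map ψ ≤ _
      rw [Ideal.map_span, Ideal.span_le]
      rintro _ ⟨_, ⟨a, rfl⟩, rfl⟩
      rw [hψX]; exact hpn a
    exact Ideal.pow_right_mono h1 3 (Ideal.map_pow ψ _ 3 ▸ Ideal.mem_map_of_mem ψ hf)
  have hσn : ∀ f ∈ varsIdeal k n ^ 3, q (σ (Ideal.Quotient.mk _ f)) = 0 := fun f hf => by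
    let ρ : PS →+* PS ⧸ T := q.comp (σ.toRingHom.comp (Ideal.Quotient.mk _))
    have h1 : (varsIdeal k n).map ρ ≤ (varsIdeal k n).map (Ideal.Quotient.mk T) := by
      show (Ideal.span _).map ρ ≤ _
      rw [Ideal.map_span, Ideal.span_le]
      rintro _ ⟨_, ⟨a, rfl⟩, rfl⟩
      show q (σ (Ideal.Quotient.mk _ (MvPowerSeries.X a))) ∈ _
      rw [← hp a]
      exact Ideal.mem_map_of_mem _ (hpn a)
    have h2 := Ideal.pow_right_mono h1 3 (Ideal.map_pow ρ _ 3 ▸ Ideal.mem_map_of_mem ρ hf)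
    rw [← Ideal.map_pow] at h2
    obtain ⟨g, hg, hgρ⟩ := (Ideal.mem_map_iff_of_surjective _ Ideal.Quotient.mk_surjective).1 h2
    show ρ f = 0
    rw [← hgρ, Ideal.Quotient.eq_zero_iff_mem]
    exact Ideal.mem_sup_right hg
  have heq : (Ideal.Quotient.mk T).comp ψ = q.comp (σ.toRingHom.comp (Ideal.Quotient.mk _)) :=
    ps_hom_ext _ _ (fun c => by simp [hψC, hσ, q]) (fun a => by
      show Ideal.Quotient.mk T (ψ (MvPowerSeries.X a)) = q (σ (Ideal.Quotient.mk _ (MvPowerSeries.X a)))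
      rw [hψX, ← hp a]; rfl) 3 hψn hσn
  have hzT : ψ z ∈ T := by
    rw [← Ideal.Quotient.eq_zero_iff_mem]
    refine (RingHom.congr_fun heq z).trans ?_
    show q (σ (Ideal.Quotient.mk _ z)) = 0
    rw [Ideal.Quotient.eq_zero_iff_mem.2 (Ideal.mem_span_singleton_self z), map_zero, map_zero]
  obtain ⟨u, hu, v, hv, huv⟩ := Submodule.mem_sup.1 hzT
  obtain ⟨c, rfl⟩ := Ideal.mem_span_singleton'.1 hu
  refine ⟨M, MvPowerSeries.constantCoeff c, p, ?_, fun a => (hp a).symm, hlp⟩
  show aeval l (part2 z) = _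
  rw [← hpart, ← part2_mul c hQ]
  exact part2_congr (by rw [← huv]; simpa using hv)

/-- The composite of the linear parts of inverse isomorphisms is the identity. -/
theorem lift_inverse {z Q : MvPowerSeries (Fin n) k} (hz : z ∈ varsIdeal k n ^ 2) (hQ : Q ∈ varsIdeal k n ^ 2)
    (σ : (MvPowerSeries (Fin n) k ⧸ Ideal.span {z}) ≃+* (MvPowerSeries (Fin n) k ⧸ Ideal.span {Q}))
    (hσ : ∀ c, σ (Ideal.Quotient.mk _ (MvPowerSeries.C c)) = Ideal.Quotient.mk _ (MvPowerSeries.C c))
    (M : Fin n → Fin n → k) (p : Fin n → PS)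
    (hp : ∀ a, σ (Ideal.Quotient.mk _ (MvPowerSeries.X a)) = Ideal.Quotient.mk _ (p a))
    (hlp : ∀ a, p a - algebraMap (MvPolynomial (Fin n) k) PS (∑ b, C (M a b) * X b) ∈ varsIdeal k n ^ 2)
    (M' : Fin n → Fin n → k) (p' : Fin n → PS)
    (hp' : ∀ a, σ.symm (Ideal.Quotient.mk _ (MvPowerSeries.X a)) = Ideal.Quotient.mk _ (p' a))
    (hlp' : ∀ a, p' a - algebraMap (MvPolynomial (Fin n) k) PS (∑ b, C (M' a b) * X b) ∈ varsIdeal k n ^ 2) (a : Fin n) :
    aeval (fun a => ∑ b, C (M' a b) * X b) (∑ b, C (M a b) * X b : MvPolynomial (Fin n) k) = X a := by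
  classical
  let 𝔮 := varsIdeal k n ^ 2
  let ρ : (PS ⧸ Ideal.span {z}) →+* PS ⧸ 𝔮 := Ideal.Quotient.factor ((Ideal.span_singleton_le_iff_mem _).2 hz)
  let ρ' : (PS ⧸ Ideal.span {Q}) →+* PS ⧸ 𝔮 := ρ.comp σ.symm.toRingHom
  -- `ρ'` on polynomials is the linear substitution
  let A : MvPolynomial (Fin n) k →+* PS ⧸ 𝔮 := ρ'.comp ((Ideal.Quotient.mk _).comp (algebraMap _ PS))
  let B : MvPolynomial (Fin n) k →+* PS ⧸ 𝔮 :=
    ((Ideal.Quotient.mk 𝔮).comp (algebraMap _ PS)).comp (aeval fun a => ∑ b, C (M' a b) * X b).toRingHom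
  have hAB : A = B := ringHom_ext (fun c => by
      have h1 : σ.symm (Ideal.Quotient.mk _ (MvPowerSeries.C c)) = Ideal.Quotient.mk _ (MvPowerSeries.C c) := by
        rw [σ.symm_apply_eq, hσ]
      show ρ (σ.symm (Ideal.Quotient.mk _ (algebraMap _ PS (C c : MvPolynomial (Fin n) k)))) =
        Ideal.Quotient.mk 𝔮 (algebraMap _ PS (aeval _ (C c : MvPolynomial (Fin n) k)))
      rw [aeval_C, MvPolynomial.algebraMap_eq,
        show algebraMap _ PS (C c : MvPolynomial (Fin n) k) = MvPowerSeries.C c by simp [MvPowerSeries.algebraMap_apply'], h1]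
      rfl)
    fun b => by
      show ρ (σ.symm (Ideal.Quotient.mk _ (algebraMap _ PS (X b : MvPolynomial (Fin n) k)))) = B (X b)
      rw [show algebraMap _ PS (X b : MvPolynomial (Fin n) k) = MvPowerSeries.X b by simp [MvPowerSeries.algebraMap_apply'],
        hp']
      simp only [B, RingHom.comp_apply, AlgHom.toRingHom_eq_coe, RingHom.coe_coe, aeval_X]
      exact Ideal.Quotient.eq.2 (hlp' b)
  have hρ'n : ∀ f ∈ 𝔮, ρ' (Ideal.Quotient.mk _ f) = 0 := fun f hf => by
    have h1 : (varsIdeal k n).map (ρ'.comp (Ideal.Quotient.mk _)) ≤ (varsIdeal k n).map (Ideal.Quotient.mk 𝔮) := by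
      show (Ideal.span _).map _ ≤ _
      rw [Ideal.map_span, Ideal.span_le]
      rintro _ ⟨_, ⟨b, rfl⟩, rfl⟩
      show ρ (σ.symm (Ideal.Quotient.mk _ (MvPowerSeries.X b))) ∈ _
      rw [hp']
      refine Ideal.mem_map_of_mem _ ?_
      have := add_mem (Ideal.pow_le_self two_ne_zero (hlp' b))
        (show algebraMap _ PS (∑ b', C (M' b b') * X b' : MvPolynomial (Fin n) k) ∈ varsIdeal k n by
          rw [map_sum]
          refine Ideal.sum_mem _ fun b' _ => ?_
          rw [map_mul]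
          refine Ideal.mul_mem_left _ _ (Ideal.subset_span ⟨b', ?_⟩)
          simp [MvPowerSeries.algebraMap_apply'])
      rwa [sub_add_cancel] at this
    have h3 : ρ' (Ideal.Quotient.mk _ f) ∈ (varsIdeal k n ^ 2).map (ρ'.comp (Ideal.Quotient.mk _)) :=
      Ideal.mem_map_of_mem (ρ'.comp (Ideal.Quotient.mk _)) hf
    rw [Ideal.map_pow] at h3
    have h2 := Ideal.pow_right_mono h1 2 h3
    rw [← Ideal.map_pow, show varsIdeal k n ^ 2 = 𝔮 from rfl, Ideal.map_quotient_self] at h2
    exact h2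
  have h1 : Ideal.Quotient.mk 𝔮 (MvPowerSeries.X a) = B (∑ b, C (M a b) * X b) := by
    rw [← hAB]
    show ρ (Ideal.Quotient.mk _ (MvPowerSeries.X a)) = ρ' (Ideal.Quotient.mk _ (algebraMap _ PS _))
    rw [← σ.symm_apply_apply (Ideal.Quotient.mk _ (MvPowerSeries.X a)), hp a]
    have h0 := hρ'n _ (hlp a)
    rw [map_sub, map_sub, sub_eq_zero] at h0
    exact h0
  have h2 : (aeval (fun a => ∑ b, C (M' a b) * X b) (∑ b, C (M a b) * X b : MvPolynomial (Fin n) k)).IsHomogeneous 1 := by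
    have hl : ∀ M : Fin n → Fin n → k, ∀ a, (∑ b, C (M a b) * X b : MvPolynomial (Fin n) k).IsHomogeneous 1 :=
      fun M a => IsHomogeneous.sum _ _ _ fun b _ => by simpa using (isHomogeneous_C _ (M a b)).mul (isHomogeneous_X k b)
    simpa using (hl M a).aeval _ (hl M')
  have h3 := coeff_single_algebraMap _ ((isHomogeneous_X k a).sub h2) (by
    rw [map_sub, show algebraMap _ PS (X a : MvPolynomial (Fin n) k) = MvPowerSeries.X a by simp [MvPowerSeries.algebraMap_apply']]
    exact Ideal.Quotient.eq.1 h1)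
  exact (sub_eq_zero.1 h3).symm

/-- Nondegeneracy of the quadratic part depends only on the hypersurface ring. -/
theorem nondeg_of_equiv {m : ℕ} {z Q : MvPowerSeries (Fin (m + 1)) k} (hz : z ∈ varsIdeal k (m + 1) ^ 2)
    (hQ : Q ∈ varsIdeal k (m + 1) ^ 2)
    (σ : (MvPowerSeries (Fin (m + 1)) k ⧸ Ideal.span {z}) ≃+* (MvPowerSeries (Fin (m + 1)) k ⧸ Ideal.span {Q}))
    (hσ : ∀ c, σ (Ideal.Quotient.mk _ (MvPowerSeries.C c)) = Ideal.Quotient.mk _ (MvPowerSeries.C c))
    (h : NondegP (part2 Q)) : NondegP (part2 z) := by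
  classical
  have hσ' : ∀ c, σ.symm (Ideal.Quotient.mk _ (MvPowerSeries.C c)) = Ideal.Quotient.mk _ (MvPowerSeries.C c) :=
    fun c => by rw [σ.symm_apply_eq, hσ]
  obtain ⟨M, c, p, hM, hp, hlp⟩ := exists_lift hz hQ σ hσ
  obtain ⟨M', c', p', hM', hp', hlp'⟩ := exists_lift hQ hz σ.symm hσ'
  have hinv := lift_inverse hz hQ σ hσ M p hp hlp M' p' hp' hlp'
  set l : Fin (m + 1) → MvPolynomial (Fin (m + 1)) k := fun a => ∑ b, C (M a b) * X b
  set l' : Fin (m + 1) → MvPolynomial (Fin (m + 1)) k := fun a => ∑ b, C (M' a b) * X b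
  have hid : ∀ P, aeval l' (aeval l P) = P := fun P => by
    have : (aeval l').comp (aeval l) = AlgHom.id k (MvPolynomial (Fin (m + 1)) k) := algHom_ext fun a => by
      simpa [l] using hinv a
    exact AlgHom.congr_fun this P
  have hne : part2 z ≠ 0 := fun h0 => h.1 (by
    have hinv' := lift_inverse hQ hz σ.symm hσ' M' p' hp' hlp' M p (by simpa using hp) hlp
    have hid' : (aeval l).comp (aeval l') = AlgHom.id k (MvPolynomial (Fin (m + 1)) k) := algHom_ext fun a => by
      simpa [l'] using hinv' a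
    have h1 : aeval l (aeval l' (part2 Q)) = part2 Q := AlgHom.congr_fun hid' _
    rw [← h1, hM', h0, mul_zero, map_zero])
  refine ⟨hne, fun ⟨w, hw, hw0, hwd⟩ => ?_⟩
  have hc : c ≠ 0 := fun hc => hne (by rw [← hid (part2 z), hM, hc, map_zero, zero_mul, map_zero])
  let u : Fin (m + 1) → k := fun b => eval w (l' b)
  have hev : ∀ P, eval u (aeval l P) = eval w P := fun P => by
    have h1 : ∀ R, eval w (aeval l' R) = eval u R := fun R => by
      have : (eval w).comp (aeval l').toRingHom = eval u := ringHom_ext (fun b => by simp) fun b => by simp [u]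
      exact RingHom.congr_fun this R
    rw [← h1, hid]
  have hQeq : part2 Q = C c⁻¹ * aeval l (part2 z) := by
    rw [hM, ← mul_assoc, ← map_mul, inv_mul_cancel₀ hc, map_one, one_mul]
  refine h.2 ⟨u, fun hu => hw (funext fun a => ?_), by rw [hQeq, map_mul, hev, hw0, mul_zero], fun b => ?_⟩
  · have h1 := hev (X a)
    rw [aeval_X, eval_X, hu] at h1
    rw [← h1]
    simp [l]
  · have haff : aeval l = affSub (r := m) (0 : Fin (m + 1) → k) M := algHom_ext fun a => by simp [affSub, l]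
    rw [hQeq, pderiv_C_mul, haff, pderiv_affSub, ← haff, map_mul, map_sum]
    exact mul_eq_zero_of_right _ (Finset.sum_eq_zero fun x _ => by rw [map_mul, hev, hwd, mul_zero])

end OrdQuad
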