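import Mathlib

/-!
# Separating a point from the projection of an algebraic set
-/

set_option autoImplicit false
set_option linter.unusedSectionVars false
set_option linter.style.haveILetI false

universe u

open MvPolynomial IsLocalRing

namespace OrdQuad

variable {k : Type u} [Field k] [IsAlgClosed k]

/-- A point outside the closure of a projection: it is enough to rule out specialisations along valuations. -/
theorem exists_sep {σ τ : Type} [Finite σ] [Finite τ] {ι : Type*} (eqs : ι → MvPolynomial (σ ⊕ τ) k) (c0 : σ → k)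
    (h : ∀ (L : Type u) [Field L] [Algebra k L] (R : Type u) [CommRing R] [IsLocalRing R] [Algebra k R]
      (i : R →ₐ[k] L), Function.Injective i → (∀ x : L, x ∈ Set.range i ∨ x⁻¹ ∈ Set.range i) →
      ∀ (c : σ → R) (y : τ → L), (∀ l, aeval (Sum.elim (fun s => i (c s)) y) (eqs l) = 0) →
      (∀ s, c s - algebraMap k R (c0 s) ∈ maximalIdeal R) → False) :
    ∃ Φ : MvPolynomial σ k, eval c0 Φ ≠ 0 ∧
      ∀ (c : σ → k) (y : τ → k), (∀ l, eval (Sum.elim c y) (eqs l) = 0) → eval c Φ = 0 := by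
  classical
  by_contra hc
  push Not at hc
  let I : Ideal (MvPolynomial (σ ⊕ τ) k) := Ideal.span (Set.range eqs)
  let j : MvPolynomial σ k →ₐ[k] MvPolynomial (σ ⊕ τ) k := rename Sum.inl
  have hle : I.radical.comap j ≤ RingHom.ker (eval c0) := by
    intro Φ hΦ
    by_contra h0
    obtain ⟨c, y, hy, hne⟩ := hc Φ h0
    refine hne ?_
    rw [Ideal.mem_comap, ← vanishingIdeal_zeroLocus_eq_radical (K := k), mem_vanishingIdeal_iff] at hΦ
    have h1 := hΦ (Sum.elim c y) (by
      rw [mem_zeroLocus_iff]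
      intro p hp
      have hle : I ≤ RingHom.ker (eval (Sum.elim c y)) := Ideal.span_le.2 (by rintro _ ⟨l, rfl⟩; exact hy l)
      rw [aeval_eq_eval]
      exact hle hp)
    rw [aeval_eq_eval, show (j Φ) = rename Sum.inl Φ from rfl] at h1
    simpa [eval_rename] using h1
  have hfin := I.finite_minimalPrimes_of_isNoetherianRing
  obtain ⟨Q, hQ, hQle⟩ : ∃ Q ∈ I.minimalPrimes, Q.comap j ≤ RingHom.ker (eval c0) := by
    haveI : (RingHom.ker (eval c0)).IsPrime := RingHom.ker_isPrime _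
    have h1 : hfin.toFinset.inf (fun Q : Ideal (MvPolynomial (σ ⊕ τ) k) => Q.comap j) ≤ RingHom.ker (eval c0) := by
      refine le_trans ?_ hle
      intro x hx
      rw [Ideal.mem_comap, ← Ideal.sInf_minimalPrimes, Ideal.mem_sInf]
      intro Q hQ
      exact (Finset.inf_le (hfin.mem_toFinset.2 hQ) : _ ≤ Q.comap j) hx
    obtain ⟨Q, hQ, hQle⟩ := (Ideal.IsPrime.inf_le' inferInstance).1 h1
    exact ⟨Q, hfin.mem_toFinset.1 hQ, hQle⟩
  haveI : Q.IsPrime := hQ.1.1
  let L := FractionRing (MvPolynomial (σ ⊕ τ) k ⧸ Q)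
  let g : σ ⊕ τ → L := fun a => algebraMap (MvPolynomial (σ ⊕ τ) k ⧸ Q) L (Ideal.Quotient.mk Q (X a))
  have hg : ∀ p, aeval g p = algebraMap (MvPolynomial (σ ⊕ τ) k ⧸ Q) L (Ideal.Quotient.mk Q p) := fun p => by
    have : aeval g = (IsScalarTower.toAlgHom k (MvPolynomial (σ ⊕ τ) k ⧸ Q) L).comp (Ideal.Quotient.mkₐ k Q) :=
      algHom_ext fun a => by simp [g]
    rw [this]; rfl
  let ψ : MvPolynomial σ k →ₐ[k] L := aeval fun s => g (Sum.inl s)
  have hψ : ∀ Φ, ψ Φ = 0 → Φ ∈ Q.comap j := fun Φ h0 => by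
    rw [show ψ Φ = aeval g (j Φ) by simp only [ψ, j, aeval_rename]; rfl, hg, map_eq_zero_iff _ (IsFractionRing.injective _ L),
      Ideal.Quotient.eq_zero_iff_mem] at h0
    exact h0
  let M : Ideal ψ.toRingHom.range := (RingHom.ker (eval c0)).map ψ.toRingHom.rangeRestrict
  have hM : M ≠ ⊤ := by
    intro htop
    have h1 := congrArg (Ideal.comap ψ.toRingHom.rangeRestrict) htop
    rw [Ideal.comap_map_of_surjective _ ψ.toRingHom.rangeRestrict_surjective, Ideal.comap_top] at h1
    have h2 : (⊥ : Ideal _).comap ψ.toRingHom.rangeRestrict ≤ RingHom.ker (eval c0) := fun Φ hΦ =>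
      hQle (hψ Φ (congrArg Subtype.val (Ideal.mem_bot.1 hΦ)))
    rw [sup_eq_left.2 h2] at h1
    exact RingHom.ker_ne_top _ h1
  obtain ⟨B, hB, hMB⟩ := Ideal.image_subset_nonunits_valuationSubring M hM
  have hmem : ∀ Φ, ψ Φ ∈ B := fun Φ => hB ⟨Φ, rfl⟩
  have halg : ∀ a : k, algebraMap k L a ∈ B.toSubring := fun a => by
    have h1 : ψ (C a) = algebraMap k L a := by simp [ψ]
    rw [← h1]; exact hmem (C a)
  letI : Algebra k B := ((algebraMap k L).codRestrict B.toSubring halg).toAlgebra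
  let i : B →ₐ[k] L := { B.subtype with commutes' := fun a => rfl }
  refine h L B i Subtype.val_injective (fun x => ?_) (fun s => ⟨ψ (X s), hmem _⟩) (fun t => g (Sum.inr t))
    (fun l => ?_) fun s => ?_
  · rcases B.mem_or_inv_mem x with hx | hx
    exacts [Or.inl ⟨⟨x, hx⟩, rfl⟩, Or.inr ⟨⟨x⁻¹, hx⟩, rfl⟩]
  · have : (Sum.elim (fun s => i ⟨ψ (X s), hmem _⟩) fun t => g (Sum.inr t)) = g := by
      funext a
      rcases a with s | t
      · show ψ (X s) = g (Sum.inl s)
        simp [ψ]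
      · rfl
    rw [this, hg, Ideal.Quotient.eq_zero_iff_mem.2 (hQ.1.2 (Ideal.subset_span ⟨l, rfl⟩)), map_zero]
  · rw [← ValuationSubring.coe_mem_nonunits_iff]
    show ψ (X s) - algebraMap k L (c0 s) ∈ B.nonunits
    refine hMB ⟨ψ.toRingHom.rangeRestrict (X s - C (c0 s)), Ideal.mem_map_of_mem _ (by simp [RingHom.mem_ker]), ?_⟩
    show ψ (X s - C (c0 s)) = _
    rw [map_sub]; simp [ψ]

/-- Coordinates of a projective point in a valuation ring. -/
theorem exists_max {L R : Type*} [Field L] [CommRing R] (i : R →+* L)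
    (hv : ∀ x : L, x ∈ Set.range i ∨ x⁻¹ ∈ Set.range i) {α : Type*} [Fintype α] (x : α → L) (hx : x ≠ 0) :
    ∃ q, x q ≠ 0 ∧ ∀ a, x a / x q ∈ Set.range i := by
  classical
  suffices H : ∀ s : Finset α, (∃ a ∈ s, x a ≠ 0) → ∃ q ∈ s, x q ≠ 0 ∧ ∀ a ∈ s, x a / x q ∈ Set.range i by
    obtain ⟨a, ha⟩ := Function.ne_iff.1 hx
    obtain ⟨q, -, hq, hall⟩ := H Finset.univ ⟨a, Finset.mem_univ _, ha⟩
    exact ⟨q, hq, fun a => hall a (Finset.mem_univ _)⟩
  intro s
  induction s using Finset.induction_on with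
  | empty => simp
  | insert b s hb ih =>
    intro _
    by_cases hs : ∃ a ∈ s, x a ≠ 0
    · obtain ⟨q, hqs, hq, hall⟩ := ih hs
      rcases hv (x b / x q) with hr | hr
      · exact ⟨q, Finset.mem_insert_of_mem hqs, hq, fun a ha =>
          (Finset.mem_insert.1 ha).elim (fun h => h ▸ hr) (hall a)⟩
      · by_cases hb0 : x b = 0
        · exact ⟨q, Finset.mem_insert_of_mem hqs, hq, fun a ha =>
            (Finset.mem_insert.1 ha).elim (fun h => ⟨0, by rw [h, hb0, zero_div, map_zero]⟩) (hall a)⟩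
        · refine ⟨b, Finset.mem_insert_self _ _, hb0, fun a ha => ?_⟩
          rcases Finset.mem_insert.1 ha with rfl | h
          · exact ⟨1, by rw [div_self hb0, map_one]⟩
          · obtain ⟨p, hp⟩ := hall a h
            obtain ⟨p', hp'⟩ := hr
            exact ⟨p * p', by rw [map_mul, hp, hp', inv_div, div_mul_div_cancel₀ hq]⟩
    · obtain ⟨a, ha, hne⟩ := ‹∃ a ∈ insert b s, x a ≠ 0›
      have hab : a = b := (Finset.mem_insert.1 ha).resolve_right fun h => hs ⟨a, h, hne⟩
      subst hab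
      refine ⟨a, Finset.mem_insert_self _ _, hne, fun c hc => ?_⟩
      rcases Finset.mem_insert.1 hc with rfl | h
      · exact ⟨1, by rw [div_self hne, map_one]⟩
      · exact ⟨0, by rw [not_ne_iff.1 fun hn => hs ⟨c, h, hn⟩, zero_div, map_zero]⟩

/-- Polynomial identities on the rational zeros hold on all zeros. -/
theorem aeval_eq_zero_of_forall {τ : Type*} [Finite τ] {ι : Type*} (eqs : ι → MvPolynomial τ k) (p : MvPolynomial τ k)
    (h : ∀ y : τ → k, (∀ l, eval y (eqs l) = 0) → eval y p = 0) {κ : Type*} [CommRing κ] [Algebra k κ] [IsReduced κ]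
    (y : τ → κ) (hy : ∀ l, aeval y (eqs l) = 0) : aeval y p = 0 := by
  have hp : p ∈ (Ideal.span (Set.range eqs)).radical := by
    rw [← vanishingIdeal_zeroLocus_eq_radical (K := k), mem_vanishingIdeal_iff]
    intro z hz
    rw [mem_zeroLocus_iff] at hz
    rw [aeval_eq_eval]
    exact h z fun l => by simpa [aeval_eq_eval] using hz (eqs l) (Ideal.subset_span ⟨l, rfl⟩)
  obtain ⟨N, hN⟩ := hp
  have hle : Ideal.span (Set.range eqs) ≤ RingHom.ker (aeval y : MvPolynomial τ k →ₐ[k] κ) :=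
    Ideal.span_le.2 (by rintro _ ⟨l, rfl⟩; exact hy l)
  exact IsReduced.eq_zero _ ⟨N, by rw [← map_pow]; exact hle hN⟩

end OrdQuad
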