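import Groth.Agent.OrdQuadLib.Resid
import Groth.Agent.OrdQuadLib.Sep
import Mathlib

/-!
# Specialisation of tangency points
-/

set_option autoImplicit false
set_option linter.unusedSectionVars false
set_option linter.style.haveILetI false

universe u

open MvPolynomial CIGen Matrix IsLocalRing

namespace OrdQuad

variable {k : Type u} [Field k] {r d : ℕ}

/-- Evaluation of an equation depending on the coefficients. -/
noncomputable def evE {R : Type*} [CommRing R] [Algebra k R] (E : MvPolynomial (Fin (r + 1)) (MvPolynomial (Exp r d) k))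
    (c : Exp r d → R) (x : Fin (r + 1) → R) : R :=
  E.eval₂ (aeval (R := k) c).toRingHom x

theorem map_evE {R R' : Type*} [CommRing R] [Algebra k R] [CommRing R'] [Algebra k R'] (φ : R →ₐ[k] R')
    (E : MvPolynomial (Fin (r + 1)) (MvPolynomial (Exp r d) k)) (c : Exp r d → R) (x : Fin (r + 1) → R) :
    φ (evE E c x) = evE E (fun s => φ (c s)) fun q => φ (x q) := by
  show φ.toRingHom _ = _
  rw [evE, eval₂_comp_left φ.toRingHom, evE,
    show φ.toRingHom.comp (aeval (R := k) c).toRingHom = (aeval (R := k) fun s => φ (c s)).toRingHom from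
      RingHom.ext fun p => comp_aeval_apply c φ p]
  rfl

theorem evE_algebraMap {R : Type*} [CommRing R] [Algebra k R] (E : MvPolynomial (Fin (r + 1)) (MvPolynomial (Exp r d) k))
    (c : Exp r d → k) (x : Fin (r + 1) → R) :
    evE E (fun s => algebraMap k R (c s)) x = aeval x (MvPolynomial.map (eval c) E) := by
  rw [evE, aeval_def, eval₂_map]
  congr 1
  refine ringHom_ext (fun a => by simp) fun s => by simp

theorem evE_smul {L : Type u} [Field L] [Algebra k L] {E : MvPolynomial (Fin (r + 1)) (MvPolynomial (Exp r d) k)} {e : ℕ}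
    (hE : E.IsHomogeneous e) (c : Exp r d → L) (x : Fin (r + 1) → L) (a : L) :
    evE E c (fun q => a * x q) = a ^ e * evE E c x := by
  rw [evE, evE, ← eval_map, ← eval_map, eval_smul_of_homogeneous (hE.map _)]

variable [IsAlgClosed k] {N cc : ℕ} {F : Fin N → MvPolynomial (Fin (r + 1)) k} {S : Fin cc → Fin N} {j : Fin (r + 1)}
  {ι : Type} {E : ι → MvPolynomial (Fin (r + 1)) (MvPolynomial (Exp r d) k)} {ed : ι → ℕ}
  {c0 : Exp r d → k} {v0 : Fin (r + 1) → k}

section valued

variable {L : Type u} [Field L] [Algebra k L] {R : Type u} [CommRing R] [IsLocalRing R] [Algebra k R]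

/-- Points of tangency specialise to the tangency point. -/
theorem red_point (hE : ∀ l, (E l).IsHomogeneous (ed l)) (hj0 : v0 j = 1)
    (huniq : ∀ v : Fin (r + 1) → k, v ≠ 0 → (∀ l, eval v (MvPolynomial.map (eval c0) (E l)) = 0) → v = fun a => v j * v0 a)
    (i : R →ₐ[k] L) (hi : Function.Injective i) (hv : ∀ x : L, x ∈ Set.range i ∨ x⁻¹ ∈ Set.range i)
    (c : Exp r d → R) (hc : ∀ s, c s - algebraMap k R (c0 s) ∈ maximalIdeal R)
    (x : Fin (r + 1) → L) (hx : x ≠ 0) (hEx : ∀ l, evE (E l) (fun s => i (c s)) x = 0) :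
    x j ≠ 0 ∧ ∃ x' : Fin (r + 1) → R, (∀ a, i (x' a) = x a / x j) ∧
      ∀ a, residue R (x' a) = algebraMap k (ResidueField R) (v0 a) := by
  classical
  obtain ⟨q, hq, hq'⟩ := exists_max i.toRingHom hv x hx
  choose y hy using hq'
  have hy' : ∀ a, i (y a) = x a / x q := hy
  have hyq : y q = 1 := hi (by rw [hy', div_self hq, map_one])
  have hEy : ∀ l, evE (E l) c y = 0 := fun l => hi (by
    rw [map_zero, map_evE, show (fun a => i (y a)) = fun a => (x q)⁻¹ * x a from funext fun a => by rw [hy', div_eq_inv_mul],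
      evE_smul (hE l), hEx, mul_zero])
  let ρ : R →ₐ[k] ResidueField R := IsScalarTower.toAlgHom k R (ResidueField R)
  let κ := ResidueField R
  have hcρ : (fun s => ρ (c s)) = fun s => algebraMap k κ (c0 s) := funext fun s => by
    rw [show algebraMap k κ (c0 s) = ρ (algebraMap k R (c0 s)) from (ρ.commutes _).symm]
    exact (Ideal.Quotient.eq).2 (hc s)
  have hbar : ∀ l, aeval (fun a => ρ (y a)) (MvPolynomial.map (eval c0) (E l)) = 0 := fun l => by
    rw [← evE_algebraMap, ← hcρ, ← map_evE, hEy, map_zero]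
  -- every rational zero is proportional to the tangency point
  let eqs : Option ι → MvPolynomial (Fin (r + 1)) k := fun o =>
    o.elim (MvPolynomial.X q - 1) fun l => MvPolynomial.map (eval c0) (E l)
  have key : ∀ a, ρ (y a) * algebraMap k κ (v0 q) = algebraMap k κ (v0 a) := fun a => by
    have h := aeval_eq_zero_of_forall eqs (MvPolynomial.X a * C (v0 q) - C (v0 a)) (fun z hz => by
      have hzq : z q = 1 := by simpa [eqs, sub_eq_zero] using hz none
      have hz2 := huniq z (fun h0 => one_ne_zero (α := k) (by rw [← hzq, h0]; rfl)) fun l => hz (some l)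
      have ha : z a = z j * v0 a := congrFun hz2 a
      have hqq : z j * v0 q = 1 := (congrFun hz2 q).symm.trans hzq
      simp only [map_sub, map_mul, eval_X, eval_C, ha]
      linear_combination v0 a * hqq) (fun a => ρ (y a)) (by
      rintro (_ | l)
      · simp [eqs, hyq]
      · exact hbar l)
    simpa [sub_eq_zero] using h
  have hjunit : IsUnit (y j) := by
    by_contra hu
    have h0 : ρ (y j) = 0 := Ideal.Quotient.eq_zero_iff_mem.2 ((mem_maximalIdeal _).2 hu)
    have h1 := key j
    rw [h0, zero_mul, hj0, map_one] at h1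
    exact zero_ne_one h1
  have hxj : x j ≠ 0 := fun h => by
    have := hy' j
    rw [h, zero_div, ← map_zero i] at this
    exact not_isUnit_zero (hi this ▸ hjunit)
  refine ⟨hxj, fun a => y a * ↑hjunit.unit⁻¹, fun a => ?_, fun a => ?_⟩
  · have h1 : i (↑hjunit.unit⁻¹) = x q / x j := by
      have h2 : i (y j) * i (↑hjunit.unit⁻¹) = 1 := by rw [← map_mul, hjunit.mul_val_inv, map_one]
      rw [← mul_left_inj' (div_ne_zero hxj hq), mul_comm (i _), ← hy' j, h2]
      rw [hy']; field_simp
    rw [map_mul, hy', h1, div_mul_div_cancel₀ hq]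
  · show ρ (y a * ↑hjunit.unit⁻¹) = _
    have h2 : ρ (y j) * ρ (↑hjunit.unit⁻¹) = 1 := by rw [← map_mul, hjunit.mul_val_inv, map_one]
    have hk := key j
    rw [hj0, map_one] at hk
    have hq0 : ρ (↑hjunit.unit⁻¹) = algebraMap k κ (v0 q) := by
      rw [← mul_one (ρ _), ← hk, ← mul_assoc, mul_comm (ρ _) (ρ (y j)), h2, one_mul]
    rw [map_mul, hq0, key a]

/-- No degenerate direction survives in the residue field. -/
theorem no_witness (P : Matrix (Option (Fin cc)) (Fin (r + 1)) k)
    (hdet : IsUnit (Mx F S j P v0).det) (t0 : Fin cc → k) (hnd : ¬ DegW F j v0 (fR F S c0 t0))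
    {κ : Type u} [Field κ] [Algebra k κ] (w : Fin (r + 1) → κ) (p : Option (Fin cc) → κ) (q : Fin (r + 1))
    (hwq : w q = 1) (hwj : w j = 0)
    (htan : ∀ l, ∑ a, w a * aeval (fun b => algebraMap k κ (v0 b)) (pderiv a (F l)) = 0)
    (hquad : quad (fun b => algebraMap k κ (v0 b)) w (fR F S (fun s => algebraMap k κ (c0 s)) fun a => algebraMap k κ (t0 a)) = 0)
    (hhess : ∀ a, hess (fun b => algebraMap k κ (v0 b)) w (fR F S (fun s => algebraMap k κ (c0 s)) fun a => algebraMap k κ (t0 a)) a =
      (col F S j (fun b => algebraMap k κ (v0 b)) *ᵥ p) a) : False := by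
  classical
  let A := MvPolynomial (Fin (r + 1) ⊕ Option (Fin cc)) k
  let al : Fin (r + 1) → A := fun b => algebraMap k A (v0 b)
  let fA : MvPolynomial (Fin (r + 1)) A := fR F S (fun s => algebraMap k A (c0 s)) fun a => algebraMap k A (t0 a)
  let wg : Fin (r + 1) → A := fun a => X (Sum.inl a)
  let pg : Option (Fin cc) → A := fun o => X (Sum.inr o)
  let eqs : Unit ⊕ Fin N ⊕ Unit ⊕ Fin (r + 1) → A :=
    Sum.elim (fun _ => wg j) (Sum.elim (fun l => ∑ a, wg a * aeval al (pderiv a (F l)))
      (Sum.elim (fun _ => quad al wg fA) fun a => hess al wg fA a - (col F S j al *ᵥ pg) a))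
  have nat : ∀ {R' : Type u} [CommRing R'] [Algebra k R'] (z : Fin (r + 1) ⊕ Option (Fin cc) → R'),
      (∀ a, aeval z (al a) = algebraMap k R' (v0 a)) ∧
      MvPolynomial.map (aeval (R := k) z).toRingHom fA =
        fR F S (fun s => algebraMap k R' (c0 s)) (fun a => algebraMap k R' (t0 a)) := by
    intro R' _ _ z
    refine ⟨fun a => (aeval z).commutes _, ?_⟩
    rw [map_fR]
    congr 1 <;> funext a <;> exact (aeval z).commutes _
  have hev : ∀ {R' : Type u} [CommRing R'] [Algebra k R'] (z : Fin (r + 1) ⊕ Option (Fin cc) → R'),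
      (∀ e, aeval z (eqs e) = 0) ↔ z (Sum.inl j) = 0 ∧
        (∀ l, ∑ a, z (Sum.inl a) * aeval (fun b => algebraMap k R' (v0 b)) (pderiv a (F l)) = 0) ∧
        quad (fun b => algebraMap k R' (v0 b)) (fun a => z (Sum.inl a))
          (fR F S (fun s => algebraMap k R' (c0 s)) fun a => algebraMap k R' (t0 a)) = 0 ∧
        ∀ a, hess (fun b => algebraMap k R' (v0 b)) (fun a => z (Sum.inl a))
          (fR F S (fun s => algebraMap k R' (c0 s)) fun a => algebraMap k R' (t0 a)) a =
            (col F S j (fun b => algebraMap k R' (v0 b)) *ᵥ fun o => z (Sum.inr o)) a := by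
    intro R' _ _ z
    obtain ⟨h1, h2⟩ := nat z
    have hcol : ∀ a, aeval z ((col F S j al *ᵥ pg) a) = (col F S j (fun b => algebraMap k R' (v0 b)) *ᵥ fun o => z (Sum.inr o)) a := by
      intro a
      simp only [mulVec, dotProduct, map_sum, map_mul]
      refine Finset.sum_congr rfl fun o _ => ?_
      have hc := congrFun (congrFun (map_col (F := F) (S := S) (j := j) (aeval z) al) a) o
      rw [Matrix.map_apply] at hc
      rw [hc]
      simp [pg, h1]
    simp only [Sum.forall, eqs, Sum.elim_inl, Sum.elim_inr, forall_const, map_sub, sub_eq_zero, hcol, map_sum, map_mul,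
      map_aeval_alg, map_quad, map_hess, h1, h2, wg, aeval_X]
  refine one_ne_zero (α := κ) (hwq.symm.trans ?_)
  have hz := aeval_eq_zero_of_forall eqs (X (Sum.inl q)) (fun z hz => ?_) (Sum.elim w p) ((hev _).2 ⟨hwj, htan, hquad, hhess⟩)
  · simpa using hz
  rw [eval_X]
  obtain ⟨h1, h2, h3, h4⟩ := (hev z).1 fun e => by rw [aeval_eq_eval]; exact hz e
  simp only [Algebra.algebraMap_self, RingHom.id_apply] at h2 h3 h4
  by_contra hne
  refine hnd ⟨fun a => z (Sum.inl a), fun h0 => hne (congrFun h0 q), ⟨h1, fun l => ?_⟩, h3, fun u hu => ?_⟩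
  · simpa [grad, aeval_eq_eval] using h2 l
  · simp only [h4, mulVec, dotProduct, Fintype.sum_option, col, Matrix.of_apply, Option.elim, mul_add, Finset.sum_add_distrib,
      Finset.mul_sum]
    rw [Finset.sum_eq_single j (fun b _ hb => by simp [hb]) (by simp), hu.1, zero_mul, zero_add, Finset.sum_comm]
    refine Finset.sum_eq_zero fun a _ => ?_
    rw [← mul_zero (z (Sum.inr (some a))), ← hu.2 (S a), Finset.mul_sum]
    refine Finset.sum_congr rfl fun b _ => ?_
    simp [grad, aeval_eq_eval]
    ring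

end valued

end OrdQuad
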