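import Groth.Agent.OrdQuadLib.Param
import Groth.Agent.CIGenLib.ConeDual
import Mathlib

/-!
# Tangency data over an arbitrary algebra
-/

set_option autoImplicit false
set_option linter.unusedSectionVars false
set_option linter.style.haveILetI false

universe u

open MvPolynomial CIGen Matrix

namespace OrdQuad

section line

variable {R : Type*} [CommRing R] {σ : Type*}

theorem exists_expand (P : Polynomial R) (s : R) :
    ∃ a b, P.eval s = P.coeff 0 + s * (P.coeff 1 + s * a) ∧ P.eval s = P.coeff 0 + s * P.coeff 1 + s ^ 2 * (P.coeff 2 + s * b) := by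
  refine ⟨P.divX.divX.eval s, P.divX.divX.divX.eval s, ?_, ?_⟩
  · conv_lhs => rw [← Polynomial.X_mul_divX_add P, ← Polynomial.X_mul_divX_add P.divX]
    simp [Polynomial.coeff_divX]
    ring
  · conv_lhs => rw [← Polynomial.X_mul_divX_add P, ← Polynomial.X_mul_divX_add P.divX, ← Polynomial.X_mul_divX_add P.divX.divX]
    simp [Polynomial.coeff_divX]
    ring

theorem line_smul (x w : σ → R) (s : R) (f : MvPolynomial σ R) :
    line x (fun q => s * w q) f = (line x w f).comp (Polynomial.C s * Polynomial.X) := by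
  show line x (fun q => s * w q) f = ((Polynomial.compRingHom (Polynomial.C s * Polynomial.X)).comp (line x w)) f
  congr 1
  exact ringHom_ext (fun c => by simp [line]) fun q => by simp [line]; ring

theorem quad_smul (x w : σ → R) (s : R) (f : MvPolynomial σ R) : quad x (fun q => s * w q) f = s ^ 2 * quad x w f := by
  rw [quad, line_smul, Polynomial.comp_C_mul_X_coeff, quad, mul_comm]

theorem hess_smul (x w : σ → R) (s : R) (f : MvPolynomial σ R) (q : σ) : hess x (fun q => s * w q) f q = s * hess x w f q := by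
  rw [hess, line_smul, Polynomial.comp_C_mul_X_coeff, hess, pow_one, mul_comm]

end line

variable {k : Type u} [Field k] {r N cc d : ℕ} {R R' : Type*} [CommRing R] [Algebra k R] [CommRing R'] [Algebra k R']

/-- A form with coefficients in an algebra. -/
noncomputable def formR (c : Exp r d → R) : MvPolynomial (Fin (r + 1)) R := ∑ s, monomial s.1 (c s)

/-- The form corrected by some of the equations. -/
noncomputable def fR (F : Fin N → MvPolynomial (Fin (r + 1)) k) (S : Fin cc → Fin N) (c : Exp r d → R) (t : Fin cc → R) :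
    MvPolynomial (Fin (r + 1)) R :=
  formR c - ∑ a, C (t a) * MvPolynomial.map (algebraMap k R) (F (S a))

/-- A critical point of the corrected form on the cone. -/
def Crit (F : Fin N → MvPolynomial (Fin (r + 1)) k) (S : Fin cc → Fin N) (c : Exp r d → R) (x : Fin (r + 1) → R)
    (t : Fin cc → R) : Prop :=
  (∀ l, aeval x (F l) = 0) ∧ eval x (formR c) = 0 ∧ ∀ i, eval x (pderiv i (fR F S c t)) = 0

/-- The columns of the chosen gradients and the unit vector of the chart. -/
noncomputable def col (F : Fin N → MvPolynomial (Fin (r + 1)) k) (S : Fin cc → Fin N) (j : Fin (r + 1)) (x : Fin (r + 1) → R) :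
    Matrix (Fin (r + 1)) (Option (Fin cc)) R :=
  Matrix.of fun q o => o.elim (if q = j then 1 else 0) fun a => aeval x (pderiv q (F (S a)))

/-- The projected Jacobian. -/
noncomputable def Mx (F : Fin N → MvPolynomial (Fin (r + 1)) k) (S : Fin cc → Fin N) (j : Fin (r + 1))
    (P : Matrix (Option (Fin cc)) (Fin (r + 1)) k) (x : Fin (r + 1) → R) : Matrix (Option (Fin cc)) (Option (Fin cc)) R :=
  P.map (algebraMap k R) * col F S j x

variable {F : Fin N → MvPolynomial (Fin (r + 1)) k} {S : Fin cc → Fin N} {j : Fin (r + 1)}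

theorem map_formR (φ : R →ₐ[k] R') (c : Exp r d → R) : MvPolynomial.map φ.toRingHom (formR c) = formR fun s => φ (c s) := by
  simp [formR, map_monomial]

theorem map_fR (φ : R →ₐ[k] R') (c : Exp r d → R) (t : Fin cc → R) :
    MvPolynomial.map φ.toRingHom (fR F S c t) = fR F S (fun s => φ (c s)) fun a => φ (t a) := by
  rw [fR, map_sub, map_formR, map_sum, fR]
  refine congrArg _ (Finset.sum_congr rfl fun a _ => ?_)
  rw [map_mul, map_C, MvPolynomial.map_map, AlgHom.toRingHom_eq_coe, φ.comp_algebraMap]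
  rfl

theorem map_eval_alg (φ : R →ₐ[k] R') (x : Fin (r + 1) → R) (p : MvPolynomial (Fin (r + 1)) R) :
    φ (eval x p) = eval (fun q => φ (x q)) (MvPolynomial.map φ.toRingHom p) := by
  rw [eval_map]
  exact eval₂_comp φ.toRingHom x p

theorem map_aeval_alg (φ : R →ₐ[k] R') (x : Fin (r + 1) → R) (p : MvPolynomial (Fin (r + 1)) k) :
    φ (aeval x p) = aeval (fun q => φ (x q)) p :=
  (comp_aeval_apply x φ p)

theorem map_col (φ : R →ₐ[k] R') (x : Fin (r + 1) → R) :
    (col F S j x).map φ = col F S j fun q => φ (x q) := by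
  ext q o
  rcases o with _ | a
  · simp [col, apply_ite φ]
  · simp [col, map_aeval_alg]

theorem map_Mx (φ : R →ₐ[k] R') (P : Matrix (Option (Fin cc)) (Fin (r + 1)) k) (x : Fin (r + 1) → R) :
    (Mx F S j P x).map φ = Mx F S j P fun q => φ (x q) := by
  rw [Mx, show (P.map (algebraMap k R) * col F S j x).map φ = _ from Matrix.map_mul (f := φ.toRingHom), Mx]
  congr 1
  · ext a q; simp
  · exact map_col φ x

theorem map_det_Mx (φ : R →ₐ[k] R') (P : Matrix (Option (Fin cc)) (Fin (r + 1)) k) (x : Fin (r + 1) → R) :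
    φ (Mx F S j P x).det = (Mx F S j P fun q => φ (x q)).det := by
  rw [← map_Mx φ, AlgHom.map_det]
  rfl

theorem map_quad (φ : R →ₐ[k] R') (x w : Fin (r + 1) → R) (f : MvPolynomial (Fin (r + 1)) R) :
    φ (quad x w f) = quad (fun q => φ (x q)) (fun q => φ (w q)) (MvPolynomial.map φ.toRingHom f) := by
  show φ.toRingHom _ = _
  rw [quad, ← Polynomial.coeff_map, map_line]
  rfl

theorem map_hess (φ : R →ₐ[k] R') (x w : Fin (r + 1) → R) (f : MvPolynomial (Fin (r + 1)) R) (i : Fin (r + 1)) :
    φ (hess x w f i) = hess (fun q => φ (x q)) (fun q => φ (w q)) (MvPolynomial.map φ.toRingHom f) i := by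
  show φ.toRingHom _ = _
  rw [hess, ← Polynomial.coeff_map, map_line, ← pderiv_map]
  rfl

theorem eval_pderiv_fR (c : Exp r d → R) (t : Fin cc → R) (x : Fin (r + 1) → R) (i : Fin (r + 1)) :
    eval x (pderiv i (fR F S c t)) = eval x (pderiv i (formR c)) - (col F S j x *ᵥ fun o => o.elim 0 t) i := by
  rw [fR, map_sub, map_sum, map_sub, map_sum]
  congr 1
  simp only [mulVec, dotProduct, Fintype.sum_option, col, Matrix.of_apply, Option.elim, mul_zero, zero_add]
  refine Finset.sum_congr rfl fun a _ => ?_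
  rw [pderiv_C_mul, map_mul, eval_C, pderiv_map, eval_map, ← aeval_def, mul_comm]

theorem eval_fR (c : Exp r d → R) (t : Fin cc → R) (x : Fin (r + 1) → R) (hF : ∀ l, aeval x (F l) = 0) :
    eval x (fR F S c t) = eval x (formR c) := by
  rw [fR, map_sub, map_sum, Finset.sum_eq_zero, sub_zero]
  intro a _
  rw [map_mul, eval_map, ← aeval_def, hF, mul_zero]

/-- Unique solvability in a subring of a linear system with a good Jacobian. -/
theorem solve (i : R →ₐ[k] R') (P : Matrix (Option (Fin cc)) (Fin (r + 1)) k) (x : Fin (r + 1) → R)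
    (hu : IsUnit (Mx F S j P x).det) (b : Fin (r + 1) → R) (a : Option (Fin cc) → R')
    (ha : col F S j (fun q => i (x q)) *ᵥ a = fun q => i (b q)) :
    ∃ a' : Option (Fin cc) → R, ∀ o, i (a' o) = a o := by
  have hM : IsUnit (Mx F S j P x) := (Matrix.isUnit_iff_isUnit_det _).2 hu
  let a' := (Mx F S j P x)⁻¹ *ᵥ (P.map (algebraMap k R) *ᵥ b)
  have h1 : Mx F S j P x *ᵥ a' = P.map (algebraMap k R) *ᵥ b := by
    rw [Matrix.mulVec_mulVec, Matrix.mul_nonsing_inv _ hu, Matrix.one_mulVec]
  have hu' : IsUnit (Mx F S j P fun q => i (x q)) := by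
    rw [Matrix.isUnit_iff_isUnit_det, ← map_det_Mx i]; exact hu.map _
  refine ⟨a', fun o => congrFun (Matrix.mulVec_injective_of_isUnit hu' (a₁ := fun o => i (a' o)) (a₂ := a) ?_) o⟩
  show (Mx F S j P fun q => i (x q)) *ᵥ (fun o => i (a' o)) = (Mx F S j P fun q => i (x q)) *ᵥ a
  have h2 : (Mx F S j P fun q => i (x q)) *ᵥ (fun o => i (a' o)) = fun o => i ((Mx F S j P x *ᵥ a') o) := by
    funext o
    rw [show i ((Mx F S j P x *ᵥ a') o) = i.toRingHom ((Mx F S j P x *ᵥ a') o) from rfl, RingHom.map_mulVec, ← map_Mx i]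
    rfl
  rw [h2, h1, Mx, ← Matrix.mulVec_mulVec, ha]
  funext o
  rw [show i ((P.map (algebraMap k R) *ᵥ b) o) = i.toRingHom ((P.map (algebraMap k R) *ᵥ b) o) from rfl, RingHom.map_mulVec]
  congr 1
  congr 1
  ext a q; simp

end OrdQuad
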