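import Groth.Agent.OrdQuadLib.Spec
import Mathlib

/-!
# An open set of forms whose only tangency point is nondegenerate
-/

set_option autoImplicit false
set_option linter.unusedSectionVars false
set_option linter.style.haveILetI false

universe u

open MvPolynomial CIGen Matrix IsLocalRing

namespace OrdQuad

variable {k : Type u} [Field k] {r d N cc : ℕ}

/-- The equations of a critical point. -/
noncomputable def critE {R : Type*} [CommRing R] [Algebra k R] (F : Fin N → MvPolynomial (Fin (r + 1)) k)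
    (S : Fin cc → Fin N) (c : Exp r d → R) (x : Fin (r + 1) → R) (t : Fin cc → R) : Fin N ⊕ Unit ⊕ Fin (r + 1) → R :=
  Sum.elim (fun l => aeval x (F l)) (Sum.elim (fun _ => eval x (formR c)) fun i => eval x (pderiv i (fR F S c t)))

variable {F : Fin N → MvPolynomial (Fin (r + 1)) k} {S : Fin cc → Fin N} {j : Fin (r + 1)}

theorem critE_zero {R : Type*} [CommRing R] [Algebra k R] (c : Exp r d → R) (x : Fin (r + 1) → R) (t : Fin cc → R) :
    (∀ e, critE F S c x t e = 0) ↔ Crit F S c x t := by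
  simp [critE, Crit, Sum.forall]

theorem map_critE {R R' : Type*} [CommRing R] [Algebra k R] [CommRing R'] [Algebra k R'] (φ : R →ₐ[k] R')
    (c : Exp r d → R) (x : Fin (r + 1) → R) (t : Fin cc → R) (e : Fin N ⊕ Unit ⊕ Fin (r + 1)) :
    φ (critE F S c x t e) = critE F S (fun s => φ (c s)) (fun a => φ (x a)) (fun a => φ (t a)) e := by
  rcases e with l | _ | i
  · exact map_aeval_alg φ x (F l)
  · show φ (eval x (formR c)) = _
    rw [map_eval_alg, map_formR]; rfl
  · show φ (eval x (pderiv i (fR F S c t))) = _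
    rw [map_eval_alg, ← pderiv_map, map_fR]; rfl

theorem forall_fin3 {p : Fin 3 → Prop} : (∀ a, p a) ↔ p 0 ∧ p 1 ∧ p 2 :=
  ⟨fun h => ⟨h 0, h 1, h 2⟩, fun h a => by fin_cases a <;> simp_all⟩

theorem forall_fin4 {p : Fin 4 → Prop} : (∀ a, p a) ↔ p 0 ∧ p 1 ∧ p 2 ∧ p 3 :=
  ⟨fun h => ⟨h 0, h 1, h 2, h 3⟩, fun h a => by fin_cases a <;> simp_all⟩

variable [IsAlgClosed k] {ι : Type} {E : ι → MvPolynomial (Fin (r + 1)) (MvPolynomial (Exp r d) k)} {ed : ι → ℕ}
  {P : Matrix (Option (Fin cc)) (Fin (r + 1)) k} {c0 : Exp r d → k} {v0 : Fin (r + 1) → k} {t0 : Fin cc → k}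

theorem col_apply_none (v : Fin (r + 1) → k) (q : Fin (r + 1)) : col F S j v q none = if q = j then 1 else 0 := rfl

theorem col_apply_some (v : Fin (r + 1) → k) (q : Fin (r + 1)) (a : Fin cc) :
    col F S j v q (some a) = grad v (F (S a)) q := by
  show aeval v (pderiv q (F (S a))) = _
  rw [aeval_eq_eval]; rfl

/-- With a good Jacobian the chosen gradients span. -/
theorem span_eq (hW : ∀ v, Zero F v → v ≠ 0 → Module.finrank k (Submodule.span k (Set.range fun l => grad v (F l))) = cc)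
    {v : Fin (r + 1) → k} (hv : Zero F v) (h0 : v ≠ 0) (hdet : (Mx F S j P v).det ≠ 0) :
    Submodule.span k (Set.range fun a => grad v (F (S a))) = Submodule.span k (Set.range fun l => grad v (F l)) := by
  classical
  have hu : IsUnit (Mx F S j P v) := (Matrix.isUnit_iff_isUnit_det _).2 (Ne.isUnit hdet)
  have hli : LinearIndependent k fun a => grad v (F (S a)) := by
    rw [Fintype.linearIndependent_iff]
    intro g hg a
    have h : col F S j v *ᵥ (fun o => o.elim 0 g) = 0 := funext fun q => by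
      have := congrFun hg q
      simp only [Finset.sum_apply, Pi.smul_apply, smul_eq_mul] at this
      simp only [mulVec, dotProduct, Fintype.sum_option, Option.elim, mul_zero, zero_add, col_apply_some]
      rw [Pi.zero_apply] at this ⊢
      rw [← this]
      exact Finset.sum_congr rfl fun b _ => mul_comm _ _
    exact congrFun (Matrix.mulVec_injective_of_isUnit hu (a₁ := fun o => o.elim 0 g) (a₂ := 0) (by
      show Mx F S j P v *ᵥ _ = Mx F S j P v *ᵥ 0
      rw [Matrix.mulVec_zero, Mx, ← Matrix.mulVec_mulVec, h, Matrix.mulVec_zero])) (some a)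
  refine Submodule.eq_of_le_of_finrank_eq (Submodule.span_mono ?_) ?_
  · rintro _ ⟨a, rfl⟩; exact ⟨S a, rfl⟩
  · rw [finrank_span_eq_card hli, hW v hv h0, Fintype.card_fin]

set_option maxHeartbeats 1000000 in
/-- Near a form whose only tangency point is nondegenerate, every form has at most one, nondegenerate, tangency point. -/
theorem exists_separating {K : Type u} [Field K] [Algebra k K] {ξK : Fin (r + 1) → K} {e : Fin N → ℕ}
    (hF : IsEqn ξK F e)
    (hW : ∀ v, Zero F v → v ≠ 0 → Module.finrank k (Submodule.span k (Set.range fun l => grad v (F l))) = cc)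
    (hb : Base F E ed S j P c0 v0 t0)
    (hiff : ∀ (c : Exp r d → k) (v : Fin (r + 1) → k), v ≠ 0 →
      (BadAt F v (form1 c) ↔ ∀ l, eval v (MvPolynomial.map (eval c) (E l)) = 0)) :
    ∃ Φ : MvPolynomial (Exp r d) k, eval c0 Φ ≠ 0 ∧ ∀ c, eval c Φ ≠ 0 → ∀ v, v ≠ 0 → BadAt F v (form1 c) →
      v j ≠ 0 ∧ (v j = 1 → (∃ t, Crit F S c v t ∧ ¬ DegW F j v (fR F S c t)) ∧
        ∀ v', v' j = 1 → BadAt F v' (form1 c) → v' = v) := by
  classical
  have hne : ∀ {v : Fin (r + 1) → k} {a : Fin (r + 1)}, v a = 1 → v ≠ 0 := fun {v a} hv h =>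
    one_ne_zero (α := k) (by rw [← hv, h]; rfl)
  have hEk : ∀ (c : Exp r d → k) (v : Fin (r + 1) → k) (l : ι), evE (E l) c v = eval v (MvPolynomial.map (eval c) (E l)) :=
    fun c v l => by
      rw [← aeval_eq_eval, ← evE_algebraMap]
      rfl
  -- outside the chart
  have hC1 : ∀ a, ∃ Φ : MvPolynomial (Exp r d) k, eval c0 Φ ≠ 0 ∧
      ∀ c v, v a = 1 → v j = 0 → BadAt F v (form1 c) → eval c Φ = 0 := by
    intro a
    let A := MvPolynomial (Exp r d ⊕ Fin (r + 1)) k
    let xg : Fin (r + 1) → A := fun b => X (Sum.inr b)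
    let eqs : ι ⊕ Bool → A := Sum.elim (fun l => evE (E l) (fun s => X (Sum.inl s)) xg)
      fun b => cond b (xg a - 1) (xg j)
    obtain ⟨Φ, h0, hΦ⟩ := exists_sep eqs c0 fun L _ _ R _ _ _ i hi hv c y hz hc => by
      simp only [Sum.forall, eqs, Sum.elim_inl, Sum.elim_inr, Bool.forall_bool, cond, map_evE, map_sub, map_one,
        sub_eq_zero, xg, aeval_X] at hz
      obtain ⟨hz1, hz2, hz3⟩ := hz
      exact (red_point hb.homog hb.one hb.uniq i hi hv c hc y (fun h => one_ne_zero (α := L) (by rw [← hz3, h]; rfl)) hz1).1 hz2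
    refine ⟨Φ, h0, fun c v hva hvj hbad => hΦ c v ?_⟩
    simp only [Sum.forall, eqs, Sum.elim_inl, Sum.elim_inr, Bool.forall_bool, cond, ← aeval_eq_eval, map_evE, map_sub,
      map_one, sub_eq_zero, xg, aeval_X]
    exact ⟨fun l => (hEk c v l).trans ((hiff c v (hne hva)).1 hbad l), hvj, hva⟩
  -- a singular Jacobian
  have hC2 : ∃ Φ : MvPolynomial (Exp r d) k, eval c0 Φ ≠ 0 ∧
      ∀ c v, v j = 1 → (Mx F S j P v).det = 0 → BadAt F v (form1 c) → eval c Φ = 0 := by
    let A := MvPolynomial (Exp r d ⊕ Fin (r + 1)) k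
    let xg : Fin (r + 1) → A := fun b => X (Sum.inr b)
    let eqs : ι ⊕ Bool → A := Sum.elim (fun l => evE (E l) (fun s => X (Sum.inl s)) xg)
      fun b => cond b (xg j - 1) (Mx F S j P xg).det
    obtain ⟨Φ, h0, hΦ⟩ := exists_sep eqs c0 fun L _ _ R _ _ _ i hi hv c y hz hc => by
      simp only [Sum.forall, eqs, Sum.elim_inl, Sum.elim_inr, Bool.forall_bool, cond, map_evE, map_det_Mx, map_sub, map_one,
        sub_eq_zero, xg, aeval_X] at hz
      obtain ⟨hz1, hz2, hz3⟩ := hz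
      obtain ⟨-, y', hy', hr⟩ := red_point hb.homog hb.one hb.uniq i hi hv c hc y
        (fun h => one_ne_zero (α := L) (by rw [← hz3, h]; rfl)) hz1
      simp only [hz3, div_one] at hy'
      have h1 : i (Mx F S j P y').det = 0 := by rw [map_det_Mx, funext hy']; exact hz2
      exact not_isUnit_zero (hi (h1.trans (map_zero i).symm) ▸ det_isUnit hb y' hr)
    refine ⟨Φ, h0, fun c v hvj hdet hbad => hΦ c v ?_⟩
    simp only [Sum.forall, eqs, Sum.elim_inl, Sum.elim_inr, Bool.forall_bool, cond, ← aeval_eq_eval, map_evE, map_det_Mx,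
      map_sub, map_one, sub_eq_zero, xg, aeval_X]
    exact ⟨fun l => (hEk c v l).trans ((hiff c v (hne hvj)).1 hbad l), hdet, hvj⟩
  -- two points
  have hA : ∀ q, ∃ Φ : MvPolynomial (Exp r d) k, eval c0 Φ ≠ 0 ∧
      ∀ c v v' t t', v j = 1 → v' j = 1 → BadAt F v (form1 c) → BadAt F v' (form1 c) → Crit F S c v t → Crit F S c v' t' →
        v q ≠ v' q → eval c Φ = 0 := by
    intro q
    let τ := ((Fin (r + 1) ⊕ Fin cc) ⊕ (Fin (r + 1) ⊕ Fin cc)) ⊕ Unit
    let A := MvPolynomial (Exp r d ⊕ τ) k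
    let cg : Exp r d → A := fun s => X (Sum.inl s)
    let x1 : Fin (r + 1) → A := fun b => X (Sum.inr (Sum.inl (Sum.inl (Sum.inl b))))
    let t1 : Fin cc → A := fun b => X (Sum.inr (Sum.inl (Sum.inl (Sum.inr b))))
    let x2 : Fin (r + 1) → A := fun b => X (Sum.inr (Sum.inl (Sum.inr (Sum.inl b))))
    let t2 : Fin cc → A := fun b => X (Sum.inr (Sum.inl (Sum.inr (Sum.inr b))))
    let eqs : ((ι ⊕ ι) ⊕ (Fin N ⊕ Unit ⊕ Fin (r + 1)) ⊕ (Fin N ⊕ Unit ⊕ Fin (r + 1))) ⊕ Fin 3 → A :=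
      Sum.elim (Sum.elim (Sum.elim (fun l => evE (E l) cg x1) fun l => evE (E l) cg x2)
        (Sum.elim (critE F S cg x1 t1) (critE F S cg x2 t2)))
        ![x1 j - 1, x2 j - 1, X (Sum.inr (Sum.inr ())) * (x1 q - x2 q) - 1]
    obtain ⟨Φ, h0, hΦ⟩ := exists_sep eqs c0 fun L _ _ R _ _ _ i hi hv c y hz hc => by
      simp only [Sum.forall, eqs, Sum.elim_inl, Sum.elim_inr, forall_fin3, Matrix.cons_val, map_evE, map_critE, map_sub, map_mul, map_one, sub_eq_zero, cg, x1, x2, t1, t2, aeval_X] at hz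
      obtain ⟨⟨⟨hE1, hE2⟩, ⟨h1a, h1b, h1c⟩, h2a, h2b, h2c⟩, hj1, hj2, hy⟩ := hz
      refine two_points hb i hi hv c hc _ _ (fun b => y (Sum.inl (Sum.inl (Sum.inr b))))
        (fun b => y (Sum.inl (Sum.inr (Sum.inr b)))) hE1 hE2 ((critE_zero _ _ _).1 ?_) ((critE_zero _ _ _).1 ?_) hj1 hj2 q
        fun he => ?_
      · rintro (l | u | a)
        exacts [h1a l, h1b u, h1c a]
      · rintro (l | u | a)
        exacts [h2a l, h2b u, h2c a]
      · rw [he, sub_self, mul_zero] at hy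
        exact zero_ne_one hy
    refine ⟨Φ, h0, fun c v v' t t' hvj hvj' hbad hbad' hct hct' hne' =>
      hΦ c (Sum.elim (Sum.elim (Sum.elim v t) (Sum.elim v' t')) fun _ => (v q - v' q)⁻¹) ?_⟩
    simp only [Sum.forall, eqs, Sum.elim_inl, Sum.elim_inr, forall_fin3, Matrix.cons_val, ← aeval_eq_eval, map_evE, map_critE, map_sub, map_mul, map_one, sub_eq_zero, cg, x1, x2, t1, t2,
      aeval_X]
    refine ⟨⟨⟨fun l => (hEk c v l).trans ((hiff c v (hne hvj)).1 hbad l), fun l => (hEk c v' l).trans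
      ((hiff c v' (hne hvj')).1 hbad' l)⟩, ⟨fun l => (critE_zero c v t).2 hct (Sum.inl l),
        fun u => (critE_zero c v t).2 hct (Sum.inr (Sum.inl u)), fun a => (critE_zero c v t).2 hct (Sum.inr (Sum.inr a))⟩,
      fun l => (critE_zero c v' t').2 hct' (Sum.inl l), fun u => (critE_zero c v' t').2 hct' (Sum.inr (Sum.inl u)),
      fun a => (critE_zero c v' t').2 hct' (Sum.inr (Sum.inr a))⟩, hvj, hvj', inv_mul_cancel₀ (sub_ne_zero.2 hne')⟩
  -- a degenerate point
  have hB : ∀ a, ∃ Φ : MvPolynomial (Exp r d) k, eval c0 Φ ≠ 0 ∧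
      ∀ c v t w (p : Option (Fin cc) → k), v j = 1 → BadAt F v (form1 c) → Crit F S c v t → w a = 1 → w j = 0 →
        (∀ l, ∑ b, w b * aeval v (pderiv b (F l)) = 0) → quad v w (fR F S c t) = 0 →
        (∀ b, hess v w (fR F S c t) b = (col F S j v *ᵥ p) b) → eval c Φ = 0 := by
    intro a
    let τ := ((Fin (r + 1) ⊕ Fin cc) ⊕ (Fin (r + 1) ⊕ Option (Fin cc)))
    let cg : Exp r d → MvPolynomial (Exp r d ⊕ τ) k := fun s => X (Sum.inl s)
    let xg : Fin (r + 1) → MvPolynomial (Exp r d ⊕ τ) k := fun b => X (Sum.inr (Sum.inl (Sum.inl b)))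
    let tg : Fin cc → MvPolynomial (Exp r d ⊕ τ) k := fun b => X (Sum.inr (Sum.inl (Sum.inr b)))
    let wg : Fin (r + 1) → MvPolynomial (Exp r d ⊕ τ) k := fun b => X (Sum.inr (Sum.inr (Sum.inl b)))
    let pg : Option (Fin cc) → MvPolynomial (Exp r d ⊕ τ) k := fun b => X (Sum.inr (Sum.inr (Sum.inr b)))
    let eqs : (ι ⊕ (Fin N ⊕ Unit ⊕ Fin (r + 1))) ⊕ (Fin N ⊕ Fin (r + 1)) ⊕ Fin 4 → MvPolynomial (Exp r d ⊕ τ) k :=
      Sum.elim (Sum.elim (fun l => evE (E l) cg xg) (critE F S cg xg tg))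
        (Sum.elim (Sum.elim (fun l => ∑ b, wg b * aeval xg (pderiv b (F l)))
          fun b => hess xg wg (fR F S cg tg) b - (col F S j xg *ᵥ pg) b)
        ![xg j - 1, wg a - 1, wg j, quad xg wg (fR F S cg tg)])
    have hcol : ∀ {R' : Type u} [CommRing R'] [Algebra k R'] (φ : MvPolynomial (Exp r d ⊕ τ) k →ₐ[k] R') (b : Fin (r + 1)),
        φ ((col F S j xg *ᵥ pg) b) = (col F S j (fun q => φ (xg q)) *ᵥ fun o => φ (pg o)) b := fun {R'} _ _ φ b => by
      rw [show φ ((col F S j xg *ᵥ pg) b) = φ.toRingHom ((col F S j xg *ᵥ pg) b) from rfl, RingHom.map_mulVec, ← map_col φ xg]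
      rfl
    obtain ⟨Φ, h0, hΦ⟩ := exists_sep eqs c0 fun L _ _ R _ _ _ i hi hv c y hz hc => by
      simp only [Sum.forall, eqs, Sum.elim_inl, Sum.elim_inr, forall_fin4, Matrix.cons_val, map_evE, map_critE, map_sum, map_mul, map_aeval_alg, map_hess, map_quad, map_fR, hcol,
        map_sub, map_one, sub_eq_zero, cg, xg, tg, wg, pg, aeval_X] at hz
      obtain ⟨⟨hE, ha', hb', hc'⟩, ⟨htan, hh⟩, hxj, hwa, hwj, hq⟩ := hz
      refine one_point hb i hi hv c hc _ (fun b => y (Sum.inl (Sum.inr b))) _ (fun b => y (Sum.inr (Sum.inr b))) hE ((critE_zero _ _ _).1 ?_) hxj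
        (fun h => one_ne_zero (α := L) (hwa.symm.trans (congrFun h a))) hwj htan hq hh
      rintro (l | u | b)
      exacts [ha' l, hb' u, hc' b]
    refine ⟨Φ, h0, fun c v t w p hvj hbad hct hwa hwj htan hq hh => hΦ c (Sum.elim (Sum.elim v t) (Sum.elim w p)) ?_⟩
    simp only [Sum.forall, eqs, Sum.elim_inl, Sum.elim_inr, forall_fin4, Matrix.cons_val, ← aeval_eq_eval, map_evE, map_critE, map_sum, map_mul, map_aeval_alg, map_hess, map_quad, map_fR,
      hcol, map_sub, map_one, sub_eq_zero, cg, xg, tg, wg, pg, aeval_X]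
    exact ⟨⟨fun l => (hEk c v l).trans ((hiff c v (hne hvj)).1 hbad l), fun l => (critE_zero c v t).2 hct (Sum.inl l),
      fun u => (critE_zero c v t).2 hct (Sum.inr (Sum.inl u)), fun b => (critE_zero c v t).2 hct (Sum.inr (Sum.inr b))⟩,
      ⟨htan, hh⟩, hvj, hwa, hwj, hq⟩
  choose Φ1 hΦ1 hΦ1' using hC1
  obtain ⟨Φ2, hΦ2, hΦ2'⟩ := hC2
  choose ΦA hΦA hΦA' using hA
  choose ΦB hΦB hΦB' using hB
  refine ⟨(∏ a, Φ1 a) * Φ2 * (∏ q, ΦA q) * ∏ a, ΦB a, ?_, fun c hc v hv0 hbad => ?_⟩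
  · simp only [map_mul, map_prod]
    exact mul_ne_zero (mul_ne_zero (mul_ne_zero (Finset.prod_ne_zero_iff.2 fun a _ => hΦ1 a) hΦ2)
      (Finset.prod_ne_zero_iff.2 fun a _ => hΦA a)) (Finset.prod_ne_zero_iff.2 fun a _ => hΦB a)
  simp only [map_mul, map_prod, mul_ne_zero_iff, Finset.prod_ne_zero_iff, Finset.mem_univ, forall_true_left] at hc
  obtain ⟨⟨⟨hc1, hc2⟩, hcA⟩, hcB⟩ := hc
  refine ⟨fun hvj => ?_, fun hvj => ?_⟩
  · obtain ⟨a, ha⟩ := Function.ne_iff.1 hv0
    exact hc1 a (hΦ1' a c (fun b => (v a)⁻¹ * v b) (inv_mul_cancel₀ ha) (by simp [hvj])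
      (badAt_smul hF (isHomogeneous_form1 c) (inv_ne_zero ha) hbad))
  have hcrit : ∀ x : Fin (r + 1) → k, x j = 1 → BadAt F x (form1 c) → (Mx F S j P x).det ≠ 0 ∧ ∃ t, Crit F S c x t := by
    intro x hxj hx
    have hdet : (Mx F S j P x).det ≠ 0 := fun h => hc2 (hΦ2' c x hxj h hx)
    have h2 := hx.2.2
    rw [← span_eq hW hx.1 (hne hxj) hdet] at h2
    obtain ⟨t, ht⟩ := (Submodule.mem_span_range_iff_exists_fun k).1 h2
    refine ⟨hdet, t, fun l => by rw [aeval_eq_eval]; exact hx.1 l, hx.2.1, fun q => ?_⟩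
    rw [eval_pderiv_fR (j := j), sub_eq_zero]
    simp only [mulVec, dotProduct, Fintype.sum_option, Option.elim, mul_zero, zero_add, col_apply_some]
    have := congrFun ht q
    simp only [Finset.sum_apply, Pi.smul_apply, smul_eq_mul] at this
    exact this.symm.trans (Finset.sum_congr rfl fun a _ => mul_comm _ _)
  obtain ⟨hdet, t, hct⟩ := hcrit v hvj hbad
  refine ⟨⟨t, hct, ?_⟩, fun v' hvj' hbad' => ?_⟩
  · rintro ⟨w, hw, ⟨hwj, htan⟩, hq, hh⟩
    obtain ⟨a, ha⟩ := Function.ne_iff.1 hw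
    -- the vector of second derivatives is a combination of the columns
    obtain ⟨p, hp⟩ : ∃ p, col F S j v *ᵥ p = fun b => hess v w (fR F S c t) b := by
      by_contra hne'
      obtain ⟨ψ, hψ, hker⟩ := (LinearMap.range (Matrix.mulVecLin (col F S j v))).exists_le_ker_of_notMem
        (v := fun b => hess v w (fR F S c t) b) (fun ⟨p, hp⟩ => hne' ⟨p, hp⟩)
      refine hψ ?_
      have hrep : ∀ x, ψ x = ∑ b, x b * ψ (Pi.single b 1) := fun x => by
        conv_lhs => rw [pi_eq_sum_univ' x]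
        simp [map_sum]
      have hz : ∀ o, ∑ b, col F S j v b o * ψ (Pi.single b 1) = 0 := fun o => by
        have h : ψ (col F S j v *ᵥ Pi.single o 1) = 0 := LinearMap.mem_ker.1 (hker ⟨_, rfl⟩)
        rw [Matrix.mulVec_single_one, hrep] at h
        exact h
      rw [hrep]
      refine (Finset.sum_congr rfl fun b _ => mul_comm _ _).trans (hh (fun b => ψ (Pi.single b 1)) ⟨?_, fun l => ?_⟩)
      · have := hz none
        simpa [col_apply_none] using this
      · let η : (Fin (r + 1) → k) →ₗ[k] k := ∑ b, ψ (Pi.single b 1) • LinearMap.proj b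
        have hη : ∀ x, η x = ∑ b, ψ (Pi.single b 1) * x b := fun x => by simp [η]
        rw [← hη]
        refine LinearMap.mem_ker.1 ((Submodule.span_le.2 ?_ : _ ≤ LinearMap.ker η)
          ((span_eq hW hbad.1 hv0 hdet).symm ▸ (show grad v (F l) ∈ Submodule.span k (Set.range fun l => grad v (F l)) from
            Submodule.subset_span ⟨l, rfl⟩)))
        rintro _ ⟨b, rfl⟩
        rw [SetLike.mem_coe, LinearMap.mem_ker, hη]
        rw [← hz (some b)]
        exact Finset.sum_congr rfl fun q _ => by rw [col_apply_some, mul_comm]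
    refine hcB a (hΦB' a c v t (fun b => (w a)⁻¹ * w b) (fun o => (w a)⁻¹ * p o) hvj hbad hct (inv_mul_cancel₀ ha)
      (by simp [hwj]) (fun l => ?_) (by rw [quad_smul, hq, mul_zero]) fun b => ?_)
    · simp only [mul_assoc, ← Finset.mul_sum, aeval_eq_eval]
      exact mul_eq_zero_of_right _ (htan l)
    · rw [hess_smul, show (fun o => (w a)⁻¹ * p o) = (w a)⁻¹ • p from rfl, Matrix.mulVec_smul, Pi.smul_apply, smul_eq_mul,
        congrFun hp b]
  · obtain ⟨-, t', hct'⟩ := hcrit v' hvj' hbad'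
    funext q
    by_contra hne'
    exact hcA q (hΦA' q c v' v t' t hvj' hvj hbad' hbad hct' hct hne')

end OrdQuad
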