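import Groth.Agent.OrdQuadLib.Reduce
import Mathlib

/-!
# Two tangency points, or a degenerate one, cannot specialise to a nondegenerate one
-/

set_option autoImplicit false
set_option linter.unusedSectionVars false
set_option linter.style.haveILetI false

universe u

open MvPolynomial CIGen Matrix IsLocalRing

namespace OrdQuad

variable {k : Type u} [Field k] [IsAlgClosed k] {r d N cc : ℕ}

/-- Data at a tangency point with nondegenerate quadratic part. -/
structure Base (F : Fin N → MvPolynomial (Fin (r + 1)) k) {ι : Type}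
    (E : ι → MvPolynomial (Fin (r + 1)) (MvPolynomial (Exp r d) k)) (ed : ι → ℕ) (S : Fin cc → Fin N) (j : Fin (r + 1))
    (P : Matrix (Option (Fin cc)) (Fin (r + 1)) k) (c0 : Exp r d → k) (v0 : Fin (r + 1) → k) (t0 : Fin cc → k) : Prop where
  homog : ∀ l, (E l).IsHomogeneous (ed l)
  one : v0 j = 1
  uniq : ∀ v : Fin (r + 1) → k, v ≠ 0 → (∀ l, eval v (MvPolynomial.map (eval c0) (E l)) = 0) → v = fun a => v j * v0 a
  det : IsUnit (Mx F S j P v0).det
  crit : Crit F S c0 v0 t0
  nondeg : ¬ DegW F j v0 (fR F S c0 t0)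

variable {F : Fin N → MvPolynomial (Fin (r + 1)) k} {ι : Type}
  {E : ι → MvPolynomial (Fin (r + 1)) (MvPolynomial (Exp r d) k)} {ed : ι → ℕ} {S : Fin cc → Fin N} {j : Fin (r + 1)}
  {P : Matrix (Option (Fin cc)) (Fin (r + 1)) k} {c0 : Exp r d → k} {v0 : Fin (r + 1) → k} {t0 : Fin cc → k}
  {L : Type u} [Field L] [Algebra k L] {R : Type u} [CommRing R] [IsLocalRing R] [Algebra k R]

local notation "ρ" => IsScalarTower.toAlgHom k R (ResidueField R)

theorem det_isUnit (hb : Base F E ed S j P c0 v0 t0) (x : Fin (r + 1) → R)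
    (hx : ∀ a, residue R (x a) = algebraMap k (ResidueField R) (v0 a)) : IsUnit (Mx F S j P x).det := by
  by_contra hu
  have h0 : ρ (Mx F S j P x).det = 0 := Ideal.Quotient.eq_zero_iff_mem.2 ((mem_maximalIdeal _).2 hu)
  rw [map_det_Mx] at h0
  have h1 : algebraMap k (ResidueField R) (Mx F S j P v0).det =
      (Mx F S j P fun q => algebraMap k (ResidueField R) (v0 q)).det :=
    map_det_Mx (Algebra.ofId k (ResidueField R)) P v0
  have hx' : (fun q => ρ (x q)) = fun q => algebraMap k (ResidueField R) (v0 q) := funext hx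
  rw [hx', ← h1, map_eq_zero] at h0
  exact hb.det.ne_zero h0

/-- Multipliers at a specialising tangency point are integral and specialise to the given ones. -/
theorem crit_lift (hb : Base F E ed S j P c0 v0 t0) (i : R →ₐ[k] L) (hi : Function.Injective i)
    (c : Exp r d → R) (hc : ∀ s, c s - algebraMap k R (c0 s) ∈ maximalIdeal R) (x : Fin (r + 1) → R)
    (hx : ∀ a, residue R (x a) = algebraMap k (ResidueField R) (v0 a)) (t : Fin cc → L)
    (ht : Crit F S (fun s => i (c s)) (fun a => i (x a)) t) :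
    ∃ t' : Fin cc → R, (∀ a, i (t' a) = t a) ∧ Crit F S c x t' ∧
      ∀ a, residue R (t' a) = algebraMap k (ResidueField R) (t0 a) := by
  classical
  have hdet := det_isUnit hb x hx
  have hcol : col F S j (fun q => i (x q)) *ᵥ (fun o => o.elim 0 t) = fun q => i (eval x (pderiv q (formR c))) := by
    funext q
    have h1 := ht.2.2 q
    rw [eval_pderiv_fR (j := j), sub_eq_zero] at h1
    rw [← h1, map_eval_alg, ← pderiv_map, map_formR]
  obtain ⟨a', ha'⟩ := solve i P x hdet _ _ hcol
  let t' : Fin cc → R := fun a => a' (some a)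
  have hit : ∀ a, i (t' a) = t a := fun a => ha' (some a)
  have hcrit : Crit F S c x t' := by
    refine ⟨fun l => hi ?_, hi ?_, fun q => hi ?_⟩
    · rw [map_zero, map_aeval_alg]; exact ht.1 l
    · rw [map_zero, map_eval_alg, map_formR]; exact ht.2.1
    · rw [map_zero, map_eval_alg, ← pderiv_map, map_fR]
      simp only [hit]
      exact ht.2.2 q
  refine ⟨t', hit, hcrit, fun a => ?_⟩
  let al : Fin (r + 1) → ResidueField R := fun q => algebraMap k (ResidueField R) (v0 q)
  have h1 : (fun q => ρ (x q)) = al := funext hx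
  have h2 : (fun s => ρ (c s)) = fun s => algebraMap k (ResidueField R) (c0 s) := funext fun s => by
    rw [show algebraMap k (ResidueField R) (c0 s) = ρ (algebraMap k R (c0 s)) from (AlgHom.commutes _ _).symm]
    exact (Ideal.Quotient.eq).2 (hc s)
  have e1 : ∀ q, (col F S j al *ᵥ fun o => o.elim 0 fun a => ρ (t' a)) q =
      eval al (pderiv q (formR fun s => algebraMap k (ResidueField R) (c0 s))) := fun q => by
    have h := congrArg ρ (hcrit.2.2 q)
    rw [map_eval_alg, ← pderiv_map, map_fR, h1, h2, map_zero, eval_pderiv_fR (j := j), sub_eq_zero] at h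
    exact h.symm
  have e2 : ∀ q, (col F S j al *ᵥ fun o => o.elim 0 fun a => algebraMap k (ResidueField R) (t0 a)) q =
      eval al (pderiv q (formR fun s => algebraMap k (ResidueField R) (c0 s))) := fun q => by
    have h := congrArg (Algebra.ofId k (ResidueField R)) (hb.crit.2.2 q)
    rw [map_eval_alg, ← pderiv_map, map_fR, map_zero, eval_pderiv_fR (j := j), sub_eq_zero] at h
    exact h.symm
  have hu : IsUnit (Mx F S j P al) := by
    rw [Matrix.isUnit_iff_isUnit_det, show (Mx F S j P al).det = algebraMap k (ResidueField R) (Mx F S j P v0).det from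
      (map_det_Mx (Algebra.ofId k (ResidueField R)) P v0).symm]
    exact hb.det.map _
  have h := congrFun (Matrix.mulVec_injective_of_isUnit hu
    (a₁ := fun o => o.elim 0 fun a => ρ (t' a)) (a₂ := fun o => o.elim 0 fun a => algebraMap k (ResidueField R) (t0 a)) (by
      show (Mx F S j P al) *ᵥ _ = (Mx F S j P al) *ᵥ _
      rw [Mx, ← Matrix.mulVec_mulVec, ← Matrix.mulVec_mulVec, funext e1, funext e2])) (some a)
  exact h

/-- Residual vanishing contradicts nondegeneracy. -/
theorem not_degenerate (hb : Base F E ed S j P c0 v0 t0) (c : Exp r d → R)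
    (hc : ∀ s, c s - algebraMap k R (c0 s) ∈ maximalIdeal R) (x w : Fin (r + 1) → R) (t : Fin cc → R)
    (hx : ∀ a, residue R (x a) = algebraMap k (ResidueField R) (v0 a))
    (ht : ∀ a, residue R (t a) = algebraMap k (ResidueField R) (t0 a)) (q : Fin (r + 1)) (hwq : w q = 1) (hwj : w j = 0)
    (p : Option (Fin cc) → R)
    (htan : ∀ l, ∑ a, w a * aeval x (pderiv a (F l)) ∈ maximalIdeal R)
    (hquad : quad x w (fR F S c t) ∈ maximalIdeal R)
    (hhess : ∀ a, hess x w (fR F S c t) a - (col F S j x *ᵥ p) a ∈ maximalIdeal R) : False := by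
  classical
  have h1 : (fun q => ρ (x q)) = fun q => algebraMap k (ResidueField R) (v0 q) := funext hx
  have h2 : (fun s => ρ (c s)) = fun s => algebraMap k (ResidueField R) (c0 s) := funext fun s => by
    rw [show algebraMap k (ResidueField R) (c0 s) = ρ (algebraMap k R (c0 s)) from (AlgHom.commutes _ _).symm]
    exact (Ideal.Quotient.eq).2 (hc s)
  have h3 : (fun a => ρ (t a)) = fun a => algebraMap k (ResidueField R) (t0 a) := funext ht
  have hz : ∀ y ∈ maximalIdeal R, ρ y = 0 := fun y hy => Ideal.Quotient.eq_zero_iff_mem.2 hy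
  refine no_witness P hb.det t0 hb.nondeg (fun a => ρ (w a)) (fun o => ρ (p o)) q (by simp [hwq]) (by simp [hwj])
    (fun l => ?_) ?_ fun a => ?_
  · have h := hz _ (htan l)
    simp only [map_sum, map_mul, map_aeval_alg, h1] at h
    exact h
  · have h := hz _ hquad
    rw [map_quad, map_fR, h1, h2, h3] at h
    exact h
  · have h := hz _ (hhess a)
    rw [map_sub, sub_eq_zero, map_hess, map_fR, h1, h2, h3] at h
    rw [h, show ρ ((col F S j x *ᵥ p) a) = (ρ).toRingHom ((col F S j x *ᵥ p) a) from rfl, RingHom.map_mulVec,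
      ← h1, ← map_col (F := F) (S := S) (j := j) ρ x]
    rfl

/-- Two tangency points do not come together. -/
theorem two_points (hb : Base F E ed S j P c0 v0 t0) (i : R →ₐ[k] L) (hi : Function.Injective i)
    (hv : ∀ x : L, x ∈ Set.range i ∨ x⁻¹ ∈ Set.range i)
    (c : Exp r d → R) (hc : ∀ s, c s - algebraMap k R (c0 s) ∈ maximalIdeal R)
    (x1 x2 : Fin (r + 1) → L) (t1 t2 : Fin cc → L)
    (hE1 : ∀ l, evE (E l) (fun s => i (c s)) x1 = 0) (hE2 : ∀ l, evE (E l) (fun s => i (c s)) x2 = 0)
    (hc1 : Crit F S (fun s => i (c s)) x1 t1) (hc2 : Crit F S (fun s => i (c s)) x2 t2)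
    (h1j : x1 j = 1) (h2j : x2 j = 1) (q : Fin (r + 1)) (hne : x1 q ≠ x2 q) : False := by
  classical
  have hne0 : ∀ x : Fin (r + 1) → L, x j = 1 → x ≠ 0 := fun x hx h => one_ne_zero (α := L) (by rw [← hx, h]; rfl)
  obtain ⟨-, y1, hy1, hr1⟩ := red_point hb.homog hb.one hb.uniq i hi hv c hc x1 (hne0 x1 h1j) hE1
  obtain ⟨-, y2, hy2, hr2⟩ := red_point hb.homog hb.one hb.uniq i hi hv c hc x2 (hne0 x2 h2j) hE2
  simp only [h1j, h2j, div_one] at hy1 hy2
  have e1 : (fun a => i (y1 a)) = x1 := funext hy1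
  have e2 : (fun a => i (y2 a)) = x2 := funext hy2
  obtain ⟨s1, hs1, hC1, hsr1⟩ := crit_lift hb i hi c hc y1 hr1 t1 (e1 ▸ hc1)
  obtain ⟨s2, hs2, hC2, -⟩ := crit_lift hb i hi c hc y2 hr2 t2 (e2 ▸ hc2)
  let δ : Fin (r + 1) → L := fun a => i (y2 a - y1 a)
  have hδ : δ ≠ 0 := fun h => hne (by
    have := congrFun h q
    simp only [δ, map_sub, hy1, hy2, Pi.zero_apply, sub_eq_zero] at this
    exact this.symm)
  obtain ⟨q', hq', hq''⟩ := exists_max i.toRingHom hv δ hδ
  choose w hw using hq''
  have hw' : ∀ a, i (w a) = δ a / δ q' := hw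
  set s : R := y2 q' - y1 q'
  have hsw : (fun a => y1 a + s * w a) = y2 := funext fun a => hi (by
    rw [map_add, map_mul, hw', show i s = δ q' from rfl, mul_div_cancel₀ _ hq']
    simp [δ])
  have hsm : s ∈ maximalIdeal R := by
    rw [← residue_eq_zero_iff, map_sub, hr1, hr2, sub_self]
  have hs0 : s ≠ 0 := fun h => hq' (by show i s = 0; rw [h, map_zero])
  haveI : IsDomain R := hi.isDomain i.toRingHom
  have hwq : w q' = 1 := hi (by rw [hw', div_self hq', map_one])
  have hwj : w j = 0 := hi (by rw [hw', map_zero, show δ j = 0 by simp [δ, hy1, hy2, h1j, h2j], zero_div])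
  let f := fR F S c s1
  have hf1 : eval y1 f = 0 := (eval_fR c s1 y1 hC1.1).trans hC1.2.1
  have hf2 : eval y2 f = 0 := (eval_fR c s1 y2 hC2.1).trans hC2.2.1
  have hline : ∀ p : MvPolynomial (Fin (r + 1)) R, (line y1 w p).eval s = eval y2 p := fun p => by rw [eval_line, hsw]
  -- tangency of the direction
  have htan : ∀ l, ∑ a, w a * aeval y1 (pderiv a (F l)) ∈ maximalIdeal R := fun l => by
    obtain ⟨u, -, hu, -⟩ := exists_expand (line y1 w (MvPolynomial.map (algebraMap k R) (F l))) s
    rw [hline, coeff_zero_line, eval_map, eval_map, ← aeval_def, ← aeval_def, hC1.1, hC2.1, zero_add, eq_comm] at hu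
    have h := (mul_eq_zero.1 hu).resolve_left hs0
    rw [coeff_one_line, add_eq_zero_iff_eq_neg] at h
    simp only [pderiv_map, eval_map, ← aeval_def] at h
    rw [h]
    exact (Ideal.neg_mem_iff _).2 (Ideal.mul_mem_right _ _ hsm)
  -- the quadratic term
  have hquad : quad y1 w f ∈ maximalIdeal R := by
    obtain ⟨-, u, -, hu⟩ := exists_expand (line y1 w f) s
    rw [hline, hf2, coeff_zero_line, hf1, coeff_one_line, Finset.sum_eq_zero (fun a _ => by rw [hC1.2.2 a, mul_zero]),
      mul_zero, zero_add, zero_add, eq_comm] at hu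
    have h := (mul_eq_zero.1 hu).resolve_left (pow_ne_zero 2 hs0)
    rw [add_eq_zero_iff_eq_neg] at h
    show quad y1 w f ∈ _
    rw [quad, h]
    exact (Ideal.neg_mem_iff _).2 (Ideal.mul_mem_right _ _ hsm)
  -- the bilinear term
  choose al al2 hal hal2 using fun a => exists_expand (line y1 w (pderiv a f)) s
  have hlin : ∀ a, (col F S j y2 *ᵥ fun o => o.elim 0 fun b => s2 b - s1 b) a = s * (hess y1 w f a + s * al a) := fun a => by
    have h := hal a
    rw [hline, coeff_zero_line, hC1.2.2 a, zero_add] at h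
    show _ = s * ((line y1 w (pderiv a f)).coeff 1 + s * al a)
    rw [← h, eval_pderiv_fR (j := j)]
    have h2 := hC2.2.2 a
    rw [eval_pderiv_fR (j := j), sub_eq_zero] at h2
    rw [h2, ← Pi.sub_apply (col F S j y2 *ᵥ _) (col F S j y2 *ᵥ _) a, ← Matrix.mulVec_sub]
    congr 2
    funext o
    rcases o with _ | b <;> simp
  obtain ⟨p, hp⟩ := solve i P y2 (det_isUnit hb y2 hr2) (fun a => hess y1 w f a + s * al a)
    (fun o => (i s)⁻¹ * i (o.elim 0 fun b => s2 b - s1 b)) (funext fun a => by
      refine (congrFun (Matrix.mulVec_smul (col F S j fun q => i (y2 q)) (i s)⁻¹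
        (fun o : Option (Fin cc) => i (o.elim 0 fun b => s2 b - s1 b))) a).trans ?_
      rw [Pi.smul_apply, smul_eq_mul]
      have h : i ((col F S j y2 *ᵥ fun o => o.elim 0 fun b => s2 b - s1 b) a) = i (s * (hess y1 w f a + s * al a)) :=
        congrArg i (hlin a)
      rw [show i ((col F S j y2 *ᵥ fun o => o.elim 0 fun b => s2 b - s1 b) a) =
        i.toRingHom ((col F S j y2 *ᵥ fun o => o.elim 0 fun b => s2 b - s1 b) a) from rfl, RingHom.map_mulVec] at h
      have hcm : (col F S j y2).map i.toRingHom = col F S j fun q => i (y2 q) := map_col i y2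
      rw [hcm, map_mul] at h
      rw [inv_mul_eq_iff_eq_mul₀ (fun h0 => hs0 (hi (h0.trans (map_zero i).symm))), ← h]
      rfl)
  refine not_degenerate hb c hc y1 w s1 hr1 hsr1 q' hwq hwj p htan hquad fun a => ?_
  have h : (col F S j y2 *ᵥ p) a = hess y1 w f a + s * al a := hi (by
    rw [show i ((col F S j y2 *ᵥ p) a) = i.toRingHom ((col F S j y2 *ᵥ p) a) from rfl, RingHom.map_mulVec]
    have hcm : (col F S j y2).map i.toRingHom = col F S j fun q => i (y2 q) := map_col i y2
    rw [hcm, show (⇑i.toRingHom ∘ p) = (i s)⁻¹ • (fun o : Option (Fin cc) => i (o.elim 0 fun b => s2 b - s1 b)) from funext hp,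
      Matrix.mulVec_smul, Pi.smul_apply, smul_eq_mul]
    rw [inv_mul_eq_iff_eq_mul₀ (fun h0 => hs0 (hi (h0.trans (map_zero i).symm))), ← map_mul, ← hlin a,
      show i ((col F S j y2 *ᵥ fun o => o.elim 0 fun b => s2 b - s1 b) a) =
        i.toRingHom ((col F S j y2 *ᵥ fun o => o.elim 0 fun b => s2 b - s1 b) a) from rfl, RingHom.map_mulVec, hcm]
    rfl)
  rw [← residue_eq_zero_iff, map_sub, sub_eq_zero]
  have h' := congrArg (residue R) h
  rw [map_add, map_mul, (residue_eq_zero_iff s).2 hsm, zero_mul, add_zero] at h'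
  rw [← h', RingHom.map_mulVec, RingHom.map_mulVec]
  have h12 : ∀ y, (∀ b, residue R (y b) = algebraMap k (ResidueField R) (v0 b)) → (col F S j y).map (residue R) =
      col F S j fun b => algebraMap k (ResidueField R) (v0 b) := fun y hy =>
    (map_col ρ y).trans (congrArg (col F S j) (funext hy))
  rw [h12 y1 hr1, h12 y2 hr2]

/-- A degenerate tangency point does not specialise to a nondegenerate one. -/
theorem one_point (hb : Base F E ed S j P c0 v0 t0) (i : R →ₐ[k] L) (hi : Function.Injective i)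
    (hv : ∀ x : L, x ∈ Set.range i ∨ x⁻¹ ∈ Set.range i)
    (c : Exp r d → R) (hc : ∀ s, c s - algebraMap k R (c0 s) ∈ maximalIdeal R)
    (x : Fin (r + 1) → L) (t : Fin cc → L) (w : Fin (r + 1) → L) (p : Option (Fin cc) → L)
    (hE1 : ∀ l, evE (E l) (fun s => i (c s)) x = 0) (hc1 : Crit F S (fun s => i (c s)) x t) (h1j : x j = 1)
    (hw : w ≠ 0) (hwj : w j = 0) (htan : ∀ l, ∑ a, w a * aeval x (pderiv a (F l)) = 0)
    (hquad : quad x w (fR F S (fun s => i (c s)) t) = 0)
    (hhess : ∀ a, hess x w (fR F S (fun s => i (c s)) t) a = (col F S j x *ᵥ p) a) : False := by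
  classical
  obtain ⟨-, y, hy, hr⟩ := red_point hb.homog hb.one hb.uniq i hi hv c hc x
    (fun h => one_ne_zero (α := L) (by rw [← h1j, h]; rfl)) hE1
  simp only [h1j, div_one] at hy
  obtain rfl : (fun a => i (y a)) = x := funext hy
  obtain ⟨s, hs, -, hsr⟩ := crit_lift hb i hi c hc y hr t hc1
  obtain rfl : (fun a => i (s a)) = t := funext hs
  obtain ⟨q, hq, hq'⟩ := exists_max i.toRingHom hv w hw
  choose w' hw' using hq'
  have hw'' : (fun a => i (w' a)) = fun a => (w q)⁻¹ * w a := funext fun a => (hw' a).trans (div_eq_inv_mul _ _)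
  have hwq : w' q = 1 := hi (by rw [congrFun hw'' q, inv_mul_cancel₀ hq, map_one])
  have hwj' : w' j = 0 := hi (by rw [congrFun hw'' j, hwj, mul_zero, map_zero])
  have hh : ∀ a, i (hess y w' (fR F S c s) a) = (w q)⁻¹ * hess (fun b => i (y b)) w (fR F S (fun u => i (c u)) fun b => i (s b)) a :=
    fun a => by rw [map_hess, map_fR, hw'', hess_smul]
  obtain ⟨p', hp'⟩ := solve i P y (det_isUnit hb y hr) (fun a => hess y w' (fR F S c s) a) (fun o => (w q)⁻¹ * p o)
    (funext fun a => by
      rw [show (fun o => (w q)⁻¹ * p o) = (w q)⁻¹ • p from rfl, Matrix.mulVec_smul, Pi.smul_apply, smul_eq_mul, hh, hhess])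
  have hz : ∀ z : R, i z = 0 → z ∈ maximalIdeal R := fun z hz => by
    rw [hi (hz.trans (map_zero i).symm)]; exact Ideal.zero_mem _
  refine not_degenerate hb c hc y w' s hr hsr q hwq hwj' p' (fun l => hz _ ?_) (hz _ ?_) fun a => hz _ ?_
  · rw [map_sum]
    simp only [map_mul, map_aeval_alg, congrFun hw'']
    simp only [mul_assoc, ← Finset.mul_sum, htan, mul_zero]
  · rw [map_quad, map_fR, hw'', quad_smul, hquad, mul_zero]
  · rw [map_sub, hh, hhess, show i ((col F S j y *ᵥ p') a) = i.toRingHom ((col F S j y *ᵥ p') a) from rfl,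
      RingHom.map_mulVec, show (col F S j y).map i.toRingHom = col F S j fun b => i (y b) from map_col i y,
      show (⇑i.toRingHom ∘ p') = (w q)⁻¹ • p from funext hp', Matrix.mulVec_smul, Pi.smul_apply, smul_eq_mul, sub_self]

end OrdQuad
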